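import Groth.Agent.TransFib6.Scheme
import Groth.Agent.ConsPropLib.PointwiseProps
import Groth.Agent.FibFlat.Stalk

/-!
# Regularity of the immersion of fibres
-/

set_option autoImplicit false
set_option linter.style.haveILetI false
set_option backward.isDefEq.respectTransparency false
set_option backward.isDefEq.respectTransparency.types false

universe u

open AlgebraicGeometry CategoryTheory IsLocalRing Limits

namespace Groth.Agent.TransFib6

variable {X Y S : Scheme.{u}} (g : X ⟶ S) (f : Y ⟶ X)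

theorem fiberMap_eq (s : S) : CInt.fiberMap f g s = MoreMor.fiberMap f g s := by
  apply pullback.hom_ext <;>
    simp [CInt.fiberMap, MoreMor.fiberMap, Scheme.Hom.fiberι, Scheme.Hom.fiberToSpecResidueField]

/-- A closed immersion is regular iff it is regular near every point. -/
theorem isRegularClosedImmersion_iff [IsClosedImmersion f] :
    Mor2.IsRegularClosedImmersion f ↔ ∀ y, RegNear6.RegNear f y := by
  constructor
  · intro h y
    obtain ⟨-, hf⟩ := h
    refine ⟨⊤, trivial, inferInstance, fun z => ?_⟩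
    obtain ⟨U, hU, hyU, rs, hrs, hker⟩ := hf z.1
    have key : ∀ (O : X.Opens), O = U → ∃ rs' : List Γ(X, O),
        RingTheory.Sequence.IsRegular Γ(X, O) rs' ∧ RingHom.ker (f.app O).hom = Ideal.ofList rs' := by
      rintro O rfl
      rw [Scheme.Hom.ker_apply] at hker
      exact ⟨rs, hrs, hker⟩
    have himg : (⊤ : X.Opens).ι ''ᵁ ((⊤ : X.Opens).ι ⁻¹ᵁ U) = U := by
      rw [Scheme.Hom.image_preimage_eq_opensRange_inf, Scheme.Opens.opensRange_ι, top_inf_eq]
    have hU' : IsAffineOpen ((⊤ : X.Opens).ι ⁻¹ᵁ U) :=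
      ((⊤ : X.Opens).ι.isAffineOpen_iff_of_isOpenImmersion).1 (by rw [himg]; exact hU)
    obtain ⟨rs', hrs', hker'⟩ := key _ himg
    refine ⟨_, hU', ?_, rs', hrs', (RegNear6.ker_ideal_restrict f _ hU').trans hker'⟩
    show (⊤ : X.Opens).ι ((f ∣_ ⊤) z) ∈ U
    exact (congrArg (fun t : X => t ∈ U) (morphismRestrict_base_coe f ⊤ z)).mpr hyU
  · intro h
    refine ⟨inferInstance, fun y => ?_⟩
    obtain ⟨V, hyV, -, hV⟩ := h y
    obtain ⟨U, hU, hyU, rs, hrs, hker⟩ := hV ⟨y, hyV⟩
    rw [RegNear6.ker_ideal_restrict f V hU] at hker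
    refine ⟨V.ι ''ᵁ U, hU.image_of_isOpenImmersion V.ι, ⟨_, hyU, morphismRestrict_base_coe f V ⟨y, hyV⟩⟩, rs, hrs, ?_⟩
    rw [Scheme.Hom.ker_apply]
    exact hker

variable [IsClosedImmersion f] (s : S)

instance : IsClosedImmersion (CInt.fiberMap f g s) := by
  rw [fiberMap_eq]
  exact MorphismProperty.of_isPullback (ConsPropLib.isPullback_fiberMap f g s) inferInstance

/-- The immersion of fibres is regular at a point iff the immersion is regular in the fibre there. -/
theorem regNear_fiberMap_iff [LocallyOfFiniteType g] (w : ↥((f ≫ g).fiber s)) :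
    RegNear6.RegNear (CInt.fiberMap f g s) w ↔ FibReg g f ((f ≫ g).fiberι s w) := by
  haveI : LocallyOfFiniteType (g.fiberToSpecResidueField s) :=
    MorphismProperty.pullback_snd (P := @LocallyOfFiniteType) g _ inferInstance
  haveI : IsLocallyNoetherian (g.fiber s) := LocallyOfFiniteType.isLocallyNoetherian (g.fiberToSpecResidueField s)
  rw [RegNear6.regNear_iff]
  let F := CInt.fiberMap f g s
  let y := (f ≫ g).fiberι s w
  let v := F w
  have hsq : F ≫ g.fiberι s = (f ≫ g).fiberι s ≫ f := by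
    show CInt.fiberMap f g s ≫ _ = _
    rw [fiberMap_eq]
    exact (ConsPropLib.isPullback_fiberMap f g s).w.symm
  have hv : g.fiberι s v = f y := by
    rw [← Scheme.Hom.comp_apply, hsq]
    rfl
  let θ := FibFlat.sm (g.fiberι s) v (f y) hv
  let θY := FibFlat.sm ((f ≫ g).fiberι s) w y rfl
  have hcomm : (F.stalkMap w).hom.comp θ = θY.comp (f.stalkMap y).hom := by
    rw [← FibFlat.sm_self F w, ← FibFlat.sm_self f y, ← FibFlat.sm_comp F (g.fiberι s) w v (f y) rfl hv,
      ← FibFlat.sm_comp ((f ≫ g).fiberι s) f w y (f y) rfl rfl]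
    exact FibFlat.sm_congr hsq w (f y) _
  have hθ : Function.Surjective θ := FibFlat.surjective_sm (f := g.fiberι s) v (f y) hv
  have hkθ : RingHom.ker θ = mT g (f y) := by
    rw [FibFlat.ker_sm_fiberι g s v (f y) hv, FibFlat.sm_self]
  have hkY : RingHom.ker θY = mT (f ≫ g) y := by
    rw [FibFlat.ker_sm_fiberι (f ≫ g) s w y rfl, FibFlat.sm_self]
  let π := Ideal.Quotient.mk (mT g (f y))
  let e : (X.presheaf.stalk (f y) ⧸ mT g (f y)) ≃+* (g.fiber s).presheaf.stalk v :=
    (Ideal.quotEquivOfEq hkθ.symm).trans (RingHom.quotientKerEquivOfSurjective hθ)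
  have he : ∀ c, e (π c) = θ c := fun c => rfl
  have hker : ((RingHom.ker (f.stalkMap y).hom).map π).map e.toRingHom = RingHom.ker (F.stalkMap w).hom := by
    rw [Ideal.map_map, show e.toRingHom.comp π = θ from RingHom.ext he]
    ext q
    obtain ⟨c, rfl⟩ := hθ q
    rw [← Ideal.mem_comap, Ideal.comap_map_of_surjective' θ hθ, hkθ,
      RingHom.mem_ker, show (F.stalkMap w).hom (θ c) = θY ((f.stalkMap y).hom c) from RingHom.congr_fun hcomm c,
      ← RingHom.mem_ker, hkY, ← mT_map g f y, ← Ideal.mem_comap,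
      Ideal.comap_map_of_surjective' _ (f.stalkMap_surjective y), sup_comm]
  constructor
  · intro h
    have h2 := RegNear6.isRegularIdeal_map_equiv e.symm _ h
    rw [← hker, Ideal.map_map, RingEquiv.symm_toRingHom_comp_toRingHom, Ideal.map_id] at h2
    exact h2
  · intro h
    have h2 := RegNear6.isRegularIdeal_map_equiv e _ h
    rw [hker] at h2
    exact h2

end Groth.Agent.TransFib6
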