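import Groth.Agent.TransFib6.FlatStep
import Groth.Agent.RegLoc6.Seq
import Groth.Agent.FlatModel.Open

/-!
# Flatness from a regular sequence with flat quotient, without noetherian hypotheses
-/

set_option autoImplicit false
set_option linter.style.haveILetI false
set_option backward.isDefEq.respectTransparency.types false
set_option maxSynthPendingDepth 3

universe u

open RingTheory.Sequence

namespace Groth.Agent.TransFib6

/-- A quotient of a localization at a prime is the localization of the quotient. -/
theorem isLocalization_atPrime_quotient {A : Type u} [CommRing A] (I : Ideal A) (Q : Ideal A) [Q.IsPrime]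
    (hI : I ≤ Q) (T : Type u) [CommRing T] [Algebra A T] [IsLocalization.AtPrime T Q]
    (Q' : Ideal (A ⧸ I)) [Q'.IsPrime] (hQ' : Q'.comap (Ideal.Quotient.mk I) = Q) :
    IsLocalization.AtPrime (T ⧸ I.map (algebraMap A T)) Q' := by
  haveI : Q'.LiesOver Q := ⟨hQ'.symm⟩
  have h : Algebra.algebraMapSubmonoid (A ⧸ I) Q.primeCompl = Q'.primeCompl :=
    Ideal.algebraMapSubmonoid_primeCompl_of_liesOver_surjective Q' Q Ideal.Quotient.mk_surjective
  rw [IsLocalization.AtPrime, ← h]
  infer_instance

theorem isWeaklyRegular_ringEquiv {A B : Type u} [CommRing A] [CommRing B] (e : A ≃+* B) (rs : List A)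
    (h : IsWeaklyRegular A rs) : IsWeaklyRegular B (rs.map (e : A → B)) := by
  have h1 : List.Forall₂ (fun a b => ∀ x : A, e.toAddEquiv (a • x) = b • e.toAddEquiv x) rs (rs.map (e : A → B)) :=
    List.forall₂_map_right_iff.2 (List.forall₂_same.2 fun x _ y => map_mul e x y)
  exact (AddEquiv.isWeaklyRegular_congr h1).1 h

/-- A sequence regular at a prime, with flat quotient, gives flatness at the prime. -/
theorem flat_atPrime_of_regular {O : Type u} [CommRing O] : ∀ (n : ℕ) (A : Type u) [CommRing A] [Algebra O A]
    [Algebra.FinitePresentation O A] (fs : List A) (Q : Ideal A) [Q.IsPrime], fs.length = n → (∀ f ∈ fs, f ∈ Q) →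
    IsWeaklyRegular (Localization.AtPrime Q) (fs.map (algebraMap A (Localization.AtPrime Q))) →
    Module.Flat O (Localization.AtPrime Q ⧸ (Ideal.ofList fs).map (algebraMap A (Localization.AtPrime Q))) →
    Module.Flat O (Localization.AtPrime Q) := by
  intro n
  induction n with
  | zero =>
    intro A _ _ _ fs Q _ hlen _ _ h
    rw [List.length_eq_zero_iff.mp hlen] at h
    exact Module.Flat.of_linearEquiv ((Submodule.quotEquivOfEqBot _
      (by simp : ((Ideal.ofList ([] : List A)).map (algebraMap A (Localization.AtPrime Q))) = ⊥)).restrictScalars O).symm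
  | succ n ih =>
    intro A _ _ _ fs Q _ hlen hmem hreg hflat
    obtain ⟨f, fs, rfl⟩ : ∃ f fs', fs = f :: fs' := by
      match fs, hlen with
      | f :: fs', _ => exact ⟨f, fs', rfl⟩
    simp only [List.mem_cons, forall_eq_or_imp] at hmem
    rw [List.map_cons, RegLoc6.isWeaklyRegular_cons_quot_iff] at hreg
    let T := Localization.AtPrime Q
    let π := Ideal.Quotient.mk (Ideal.span {f})
    have hIQ : Ideal.span {f} ≤ Q := (Ideal.span_singleton_le_iff_mem Q).2 hmem.1
    let Q' : Ideal (A ⧸ Ideal.span {f}) := Q.map π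
    haveI : Q'.IsPrime := Ideal.map_isPrime_of_surjective Ideal.Quotient.mk_surjective (by rwa [Ideal.mk_ker])
    have hQ' : Q'.comap π = Q := by
      rw [Ideal.comap_map_of_surjective' π Ideal.Quotient.mk_surjective, Ideal.mk_ker, sup_eq_left.2 hIQ]
    haveI := isLocalization_atPrime_quotient (Ideal.span {f}) Q hIQ T Q' hQ'
    haveI : Algebra.FinitePresentation O (A ⧸ Ideal.span {f}) :=
      Algebra.FinitePresentation.quotient (Submodule.fg_span_singleton f)
    let T' := Localization.AtPrime Q'
    let e : (T ⧸ (Ideal.span {f}).map (algebraMap A T)) ≃ₐ[A ⧸ Ideal.span {f}] T' :=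
      IsLocalization.algEquiv Q'.primeCompl _ _
    have hsp : Ideal.span {algebraMap A T f} = (Ideal.span {f}).map (algebraMap A T) := by
      rw [Ideal.map_span, Set.image_singleton]
    haveI : IsScalarTower O (A ⧸ Ideal.span {f}) (T ⧸ (Ideal.span {f}).map (algebraMap A T)) :=
      IsScalarTower.of_algebraMap_eq' (RingHom.ext fun x => congrArg (Ideal.Quotient.mk _)
        (IsScalarTower.algebraMap_apply O A T x))
    let e₁ : (T ⧸ Ideal.span {algebraMap A T f}) ≃+* T' := (Ideal.quotEquivOfEq hsp).trans e.toRingEquiv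
    have hT' : Module.Flat O T' := by
      refine ih (A ⧸ Ideal.span {f}) (fs.map π) Q' (by simpa using hlen) (fun r hr => ?_) ?_ ?_
      · obtain ⟨a, ha, rfl⟩ := List.mem_map.1 hr
        exact Ideal.mem_map_of_mem π (hmem.2 a ha)
      · have h := isWeaklyRegular_ringEquiv e₁ _ hreg.2
        rw [List.map_map, List.map_map] at h
        rw [List.map_map]
        have hl : fs.map (algebraMap (A ⧸ Ideal.span {f}) T' ∘ π) =
            fs.map ((e₁ : _ → T') ∘ Ideal.Quotient.mk (Ideal.span {algebraMap A T f}) ∘ algebraMap A T) :=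
          List.map_congr_left fun a _ => (e.commutes (π a)).symm
        rw [hl]
        exact h
      · let eO : (T ⧸ (Ideal.span {f}).map (algebraMap A T)) ≃ₐ[O] T' := e.restrictScalars O
        have hJ : (Ideal.ofList (fs.map π)).map (algebraMap (A ⧸ Ideal.span {f}) T') =
            (((Ideal.ofList fs).map (algebraMap A T)).map
              (Ideal.Quotient.mkₐ O ((Ideal.span {f}).map (algebraMap A T)))).map
              (eO : (T ⧸ (Ideal.span {f}).map (algebraMap A T)) →+* T') := by
          rw [← Ideal.map_ofList, ← Ideal.map_coe (Ideal.Quotient.mkₐ O _), Ideal.map_map, Ideal.map_map, Ideal.map_map]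
          congr 1
          exact RingHom.ext fun a => (e.commutes (π a)).symm
        refine Module.Flat.of_linearEquiv (?_ : _ ≃ₐ[O] (T ⧸ (Ideal.ofList (f :: fs)).map (algebraMap A T))).toLinearEquiv
        exact (Ideal.quotientEquivAlg _ _ eO hJ).symm.trans
          ((DoubleQuot.quotQuotEquivQuotSupₐ O _ ((Ideal.ofList fs).map (algebraMap A T))).trans
            (Ideal.quotientEquivAlgOfEq O (by rw [Ideal.ofList_cons, Ideal.map_sup])))
    haveI : IsLocalizedModule Q'.primeCompl (Algebra.linearMap (A ⧸ Ideal.span {f}) T') :=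
      (isLocalizedModule_iff_isLocalization).2 inferInstance
    have hT'' : Module.Flat O (LocalizedModule Q'.primeCompl (A ⧸ Ideal.span {f})) :=
      Module.Flat.of_linearEquiv
        ((IsLocalizedModule.iso Q'.primeCompl (Algebra.linearMap (A ⧸ Ideal.span {f}) T')).restrictScalars O)
    obtain ⟨g, hg, hgood⟩ := FlatModel.exists_flat_nhd (R := O) (A ⧸ Ideal.span {f}) Q' hT''
    obtain ⟨a, rfl⟩ := Ideal.Quotient.mk_surjective g
    have ha : a ∉ Q := fun h => hg (Ideal.mem_map_of_mem π h)
    let A₁ := Localization.Away a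
    haveI : Algebra.FinitePresentation A A₁ := IsLocalization.Away.finitePresentation a
    haveI : Algebra.FinitePresentation O A₁ := Algebra.FinitePresentation.trans O A A₁
    let f₁ := algebraMap A A₁ f
    haveI hfl : Module.Flat O (A₁ ⧸ Ideal.span {f₁}) := by
      have h2 : Algebra.algebraMapSubmonoid (A ⧸ Ideal.span {f}) (Submonoid.powers a) = Submonoid.powers (π a) :=
        Submonoid.map_powers _ a
      haveI : IsLocalization (Submonoid.powers (π a)) (A₁ ⧸ (Ideal.span {f}).map (algebraMap A A₁)) := by
        rw [← h2]; infer_instance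
      haveI : IsLocalizedModule (Submonoid.powers (π a))
          (Algebra.linearMap (A ⧸ Ideal.span {f}) (A₁ ⧸ (Ideal.span {f}).map (algebraMap A A₁))) :=
        (isLocalizedModule_iff_isLocalization).2 (by rwa [Algebra.algebraMapSubmonoid_self])
      haveI : IsScalarTower O (A ⧸ Ideal.span {f}) (A₁ ⧸ (Ideal.span {f}).map (algebraMap A A₁)) :=
        IsScalarTower.of_algebraMap_eq' (RingHom.ext fun x => congrArg (Ideal.Quotient.mk _)
          (IsScalarTower.algebraMap_apply O A A₁ x))
      haveI := hgood (Submonoid.powers (π a)) (Submonoid.mem_powers _)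
      refine Module.Flat.of_linearEquiv
        (((Ideal.quotientEquivAlgOfEq O (?_ : Ideal.span {f₁} = (Ideal.span {f}).map (algebraMap A A₁))).toLinearEquiv).trans
          ((IsLocalizedModule.iso (Submonoid.powers (π a)) (Algebra.linearMap (A ⧸ Ideal.span {f})
            (A₁ ⧸ (Ideal.span {f}).map (algebraMap A A₁)))).restrictScalars O).symm)
      rw [Ideal.map_span, Set.image_singleton]
    have hdisj : Disjoint (Submonoid.powers a : Set A) Q :=
      Set.disjoint_left.2 fun x ⟨k, hk⟩ hx => by
        subst hk; exact ha ((inferInstance : Q.IsPrime).mem_of_pow_mem k hx)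
    let Q₁ : Ideal A₁ := Q.map (algebraMap A A₁)
    haveI : Q₁.IsPrime := IsLocalization.isPrime_of_isPrime_disjoint (Submonoid.powers a) A₁ Q ‹_› hdisj
    have hQ₁ : Q₁.comap (algebraMap A A₁) = Q :=
      IsLocalization.comap_map_of_isPrime_disjoint (Submonoid.powers a) A₁ ‹_› hdisj
    let T₁ := Localization.AtPrime Q₁
    haveI : IsLocalization.AtPrime T₁ Q := by
      have h3 := IsLocalization.isLocalization_isLocalization_atPrime_isLocalization (Submonoid.powers a) T₁ Q₁
      have h4 : (Q₁.comap (algebraMap A A₁)).primeCompl = Q.primeCompl :=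
        SetLike.ext fun x => not_congr (SetLike.ext_iff.1 hQ₁ x)
      rw [IsLocalization.AtPrime, ← h4]
      exact h3
    let e₂ : T ≃ₐ[A] T₁ := IsLocalization.algEquiv Q.primeCompl _ _
    haveI : Module.Flat O T₁ := by
      refine flat_atPrime_of_regular_quot f₁ Q₁ (Ideal.mem_map_of_mem _ hmem.1) fun t ht => ?_
      have h1 : algebraMap A T f * e₂.symm (algebraMap A₁ T₁ t) = 0 := by
        apply e₂.injective
        rw [map_mul, e₂.apply_symm_apply, e₂.commutes, map_zero, IsScalarTower.algebraMap_apply A A₁ T₁,
          ← map_mul, ht, map_zero]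
      have h5 := (isSMulRegular_iff_right_eq_zero_of_smul.1 hreg.1) _ h1
      have h6 : algebraMap A₁ T₁ t = 0 := by rw [← e₂.apply_symm_apply (algebraMap A₁ T₁ t), h5, map_zero]
      obtain ⟨⟨w, hw⟩, hw0⟩ := (IsLocalization.map_eq_zero_iff Q₁.primeCompl T₁ t).1 h6
      exact ⟨w, hw, hw0⟩
    exact Module.Flat.of_linearEquiv (e₂.restrictScalars O).toLinearEquiv

end Groth.Agent.TransFib6
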