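import Groth.Agent.TransFib6.Scheme
import Groth.Agent.TransFib6.FlatSeq

/-!
# Flatness upstairs from a regular immersion with flat source
-/

set_option autoImplicit false
set_option linter.style.haveILetI false
set_option backward.isDefEq.respectTransparency false
set_option backward.isDefEq.respectTransparency.types false
set_option maxSynthPendingDepth 3

universe u

open AlgebraicGeometry CategoryTheory RingTheory.Sequence IsLocalRing

namespace Groth.Agent.TransFib6

variable {X Y S : Scheme.{u}} (g : X ⟶ S) [LocallyOfFinitePresentation g] (f : Y ⟶ X) [IsClosedImmersion f] (y : Y)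

/-- If the source of a regular immersion is flat over the base at a point, so is the target. -/
theorem flat_stalkMap_of_regNear (hflat : ((f ≫ g).stalkMap y).hom.Flat) (h : RegNear6.RegNear f y) :
    (g.stalkMap (f y)).hom.Flat := by
  obtain ⟨V, hyV, -, hV⟩ := h
  obtain ⟨U, hU, hyU, rs, hrs, hker⟩ := hV ⟨y, hyV⟩
  rw [RegNear6.ker_ideal_restrict f V hU] at hker
  have hyD : f y ∈ V.ι ''ᵁ U := ⟨_, hyU, morphismRestrict_base_coe f V ⟨y, hyV⟩⟩
  have hD : IsAffineOpen (V.ι ''ᵁ U) := hU.image_of_isOpenImmersion V.ι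
  let rs' : List Γ(X, V.ι ''ᵁ U) := rs
  have hrs' : IsWeaklyRegular Γ(X, V.ι ''ᵁ U) rs' := hrs.toIsWeaklyRegular
  let D := V.ι ''ᵁ U
  letI : Algebra Γ(X, D) (X.presheaf.stalk (f y)) := (X.presheaf.germ D (f y) hyD).hom.toAlgebra
  haveI : IsLocalization.AtPrime (X.presheaf.stalk (f y)) (hD.primeIdealOf ⟨f y, hyD⟩).asIdeal :=
    hD.isLocalization_stalk ⟨f y, hyD⟩
  haveI : Module.Flat Γ(X, D) (X.presheaf.stalk (f y)) :=
    IsLocalization.flat _ (hD.primeIdealOf ⟨f y, hyD⟩).asIdeal.primeCompl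
  have hwr : IsWeaklyRegular (X.presheaf.stalk (f y))
      ((rs' : List Γ(X, D)).map (X.presheaf.germ D (f y) hyD).hom) :=
    IsWeaklyRegular.of_flat hrs'
  have hJ0 : Ideal.ofList ((rs' : List Γ(X, D)).map (X.presheaf.germ D (f y) hyD).hom) =
      RingHom.ker (f.stalkMap y).hom := by
    rw [RegConormal.ker_stalkMap_eq_map f y ⟨D, hD⟩ hyD inferInstance]
    exact ((congrArg (Ideal.map (X.presheaf.germ D (f y) hyD).hom) hker).trans (Ideal.map_ofList _ _)).symm
  obtain ⟨W, hW, hyW, -⟩ := exists_isAffineOpen_mem_and_subset (x := g (f y)) (U := (⊤ : S.Opens)) trivial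
  obtain ⟨r, hrW, hyr⟩ := hD.exists_basicOpen_le (V := g ⁻¹ᵁ W) ⟨f y, hyW⟩ hyD
  let D' := X.basicOpen r
  have hD' : IsAffineOpen D' := hD.basicOpen r
  let res := (X.presheaf.map (homOfLE (X.basicOpen_le r)).op).hom
  let l : List Γ(X, D') := (rs' : List Γ(X, D)).map res
  letI := (g.appLE W D' hrW).hom.toAlgebra
  haveI : Algebra.FinitePresentation Γ(S, W) Γ(X, D') := g.finitePresentation_appLE hW hD' hrW
  let Q := (hD'.primeIdealOf ⟨f y, hyr⟩).asIdeal
  let p := (hW.primeIdealOf ⟨g (f y), hyW⟩).asIdeal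
  letI algT : Algebra Γ(X, D') (X.presheaf.stalk (f y)) := (X.presheaf.germ D' (f y) hyr).hom.toAlgebra
  letI algR : Algebra Γ(S, W) (S.presheaf.stalk (g (f y))) := (S.presheaf.germ W (g (f y)) hyW).hom.toAlgebra
  haveI : IsLocalization.AtPrime (X.presheaf.stalk (f y)) Q := hD'.isLocalization_stalk ⟨f y, hyr⟩
  haveI : IsLocalization.AtPrime (S.presheaf.stalk (g (f y))) p := hW.isLocalization_stalk ⟨g (f y), hyW⟩
  letI : Algebra (S.presheaf.stalk (g (f y))) (X.presheaf.stalk (f y)) := (g.stalkMap (f y)).hom.toAlgebra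
  letI : Algebra Γ(S, W) (X.presheaf.stalk (f y)) :=
    ((X.presheaf.germ D' (f y) hyr).hom.comp (g.appLE W D' hrW).hom).toAlgebra
  haveI : IsScalarTower Γ(S, W) Γ(X, D') (X.presheaf.stalk (f y)) := IsScalarTower.of_algebraMap_eq fun _ => rfl
  have hgerm : g.appLE W D' hrW ≫ X.presheaf.germ D' (f y) hyr =
      S.presheaf.germ W (g (f y)) hyW ≫ g.stalkMap (f y) := by
    rw [Scheme.Hom.germ_stalkMap, Scheme.Hom.appLE, Category.assoc, X.presheaf.germ_res]
  haveI : IsScalarTower Γ(S, W) (S.presheaf.stalk (g (f y))) (X.presheaf.stalk (f y)) :=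
    IsScalarTower.of_algebraMap_eq fun x => congrArg (fun φ : Γ(S, W) ⟶ X.presheaf.stalk (f y) => φ.hom x) hgerm
  have hl : l.map (algebraMap Γ(X, D') (X.presheaf.stalk (f y))) =
      (rs' : List Γ(X, D)).map (X.presheaf.germ D (f y) hyD).hom := by
    rw [List.map_map]
    exact List.map_congr_left fun a _ =>
      congrArg (fun φ : Γ(X, D) ⟶ X.presheaf.stalk (f y) => φ.hom a)
        (X.presheaf.germ_res (homOfLE (X.basicOpen_le r)) (f y) hyr)
  have hlQ : ∀ a ∈ l, a ∈ Q := fun a ha => by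
    rw [← IsLocalization.AtPrime.to_map_mem_maximal_iff (X.presheaf.stalk (f y)) Q a]
    exact IsLocalRing.le_maximalIdeal (RingHom.ker_ne_top (f.stalkMap y).hom)
      (hJ0 ▸ hl ▸ Ideal.subset_span (List.mem_map_of_mem ha))
  letI : Algebra (S.presheaf.stalk (g (f y))) (Y.presheaf.stalk y) :=
    ((f.stalkMap y).hom.comp (g.stalkMap (f y)).hom).toAlgebra
  haveI : Module.Flat (S.presheaf.stalk (g (f y))) (Y.presheaf.stalk y) := by
    rw [Scheme.Hom.stalkMap_comp, CommRingCat.hom_comp] at hflat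
    exact hflat
  let π' : X.presheaf.stalk (f y) →ₐ[S.presheaf.stalk (g (f y))] Y.presheaf.stalk y :=
    { (f.stalkMap y).hom with commutes' := fun _ => rfl }
  have hJ : (Ideal.ofList l).map (algebraMap Γ(X, D') (X.presheaf.stalk (f y))) = RingHom.ker π' := by
    rw [Ideal.map_ofList, hl, hJ0]
    rfl
  haveI : Module.Flat (S.presheaf.stalk (g (f y)))
      (X.presheaf.stalk (f y) ⧸ (Ideal.ofList l).map (algebraMap Γ(X, D') (X.presheaf.stalk (f y)))) :=
    Module.Flat.of_linearEquiv (((Ideal.quotientEquivAlgOfEq (S.presheaf.stalk (g (f y))) hJ).trans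
      (Ideal.quotientKerAlgEquivOfSurjective (f := π') (f.stalkMap_surjective y))).toLinearEquiv)
  haveI : Module.Flat Γ(S, W) (S.presheaf.stalk (g (f y))) := IsLocalization.flat _ p.primeCompl
  haveI : Module.Flat Γ(S, W)
      (X.presheaf.stalk (f y) ⧸ (Ideal.ofList l).map (algebraMap Γ(X, D') (X.presheaf.stalk (f y)))) :=
    Module.Flat.trans _ (S.presheaf.stalk (g (f y))) _
  let e : Localization.AtPrime Q ≃ₐ[Γ(X, D')] X.presheaf.stalk (f y) := IsLocalization.algEquiv Q.primeCompl _ _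
  let eO : Localization.AtPrime Q ≃ₐ[Γ(S, W)] X.presheaf.stalk (f y) := e.restrictScalars Γ(S, W)
  have h1 : IsWeaklyRegular (Localization.AtPrime Q) (l.map (algebraMap Γ(X, D') (Localization.AtPrime Q))) := by
    have h2 := isWeaklyRegular_ringEquiv e.symm.toRingEquiv _ (hl ▸ hwr :
      IsWeaklyRegular (X.presheaf.stalk (f y)) (l.map (algebraMap Γ(X, D') (X.presheaf.stalk (f y)))))
    rw [List.map_map] at h2
    have hl2 : l.map ((e.symm.toRingEquiv : _ → Localization.AtPrime Q) ∘ algebraMap Γ(X, D') (X.presheaf.stalk (f y))) =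
        l.map (algebraMap Γ(X, D') (Localization.AtPrime Q)) := List.map_congr_left fun a _ => e.symm.commutes a
    rwa [hl2] at h2
  have h3 : Module.Flat Γ(S, W)
      (Localization.AtPrime Q ⧸ (Ideal.ofList l).map (algebraMap Γ(X, D') (Localization.AtPrime Q))) := by
    refine Module.Flat.of_linearEquiv (Ideal.quotientEquivAlg
      ((Ideal.ofList l).map (algebraMap Γ(X, D') (Localization.AtPrime Q)))
      ((Ideal.ofList l).map (algebraMap Γ(X, D') (X.presheaf.stalk (f y)))) eO ?_).toLinearEquiv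
    rw [Ideal.map_map]
    exact congrArg (fun φ : Γ(X, D') →+* X.presheaf.stalk (f y) => (Ideal.ofList l).map φ)
      (RingHom.ext fun a => (e.commutes a).symm)
  haveI := flat_atPrime_of_regular (O := Γ(S, W)) l.length Γ(X, D') l Q rfl hlQ h1 h3
  haveI : Module.Flat Γ(S, W) (X.presheaf.stalk (f y)) := Module.Flat.of_linearEquiv eO.symm.toLinearEquiv
  exact (Module.flat_iff_of_isLocalization (S.presheaf.stalk (g (f y))) p.primeCompl _).2 inferInstance

end Groth.Agent.TransFib6
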