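import Groth.Agent.TransFib6.Slice
import Groth.Agent.RegNear6.Stalk
import Groth.Agent.SyntDesc12.Basic
import Groth.Agent.FlatLocus.Basic
import Groth.Prelude.Def_CInt

/-!
# Regular immersions and fibres, on local rings
-/

set_option autoImplicit false
set_option linter.style.haveILetI false
set_option backward.isDefEq.respectTransparency false
set_option backward.isDefEq.respectTransparency.types false

universe u

open AlgebraicGeometry CategoryTheory RingTheory.Sequence IsLocalRing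

namespace Groth.Agent.TransFib6

variable {X Y S : Scheme.{u}} (g : X ⟶ S) (f : Y ⟶ X) [IsClosedImmersion f] (y : Y)

/-- The extension of the maximal ideal of the base to a local ring upstairs. -/
noncomputable abbrev mT (g : X ⟶ S) (x : X) : Ideal (X.presheaf.stalk x) :=
  (maximalIdeal (S.presheaf.stalk (g x))).map (g.stalkMap x).hom

/-- Regularity in the fibre, on local rings. -/
def FibReg : Prop :=
  CInt.IsRegularIdeal ((RingHom.ker (f.stalkMap y).hom).map (Ideal.Quotient.mk (mT g (f y))))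

theorem mT_le (x : X) : mT g x ≤ maximalIdeal (X.presheaf.stalk x) :=
  map_maximalIdeal_le (g.stalkMap x).hom

instance (x : X) : IsLocalRing (X.presheaf.stalk x ⧸ mT g x) :=
  haveI : Nontrivial (X.presheaf.stalk x ⧸ mT g x) := Ideal.Quotient.nontrivial_iff.2 fun h =>
    (maximalIdeal.isMaximal (X.presheaf.stalk x)).ne_top (top_le_iff.1 (h ▸ mT_le g x))
  IsLocalRing.of_surjective' (Ideal.Quotient.mk _) Ideal.Quotient.mk_surjective

instance [LocallyOfFiniteType g] (x : X) : IsNoetherianRing (X.presheaf.stalk x ⧸ mT g x) := by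
  have := SyntDesc12.isNoetherian_fibre g x (g x) rfl
  rwa [FibFlat.sm_self] at this

theorem exists_fiberStalkEquiv (x : X) :
    Nonempty ((X.presheaf.stalk x ⧸ mT g x) ≃+* CInt.fiberStalk g x) := by
  obtain ⟨e⟩ := Triage.CMMor.exists_equiv_fibre_stalk_aux g x (g x) rfl (g.asFiber x) (g.fiberι_asFiber x)
  rw [FibFlat.sm_self] at e
  exact ⟨e⟩

theorem mT_map : (mT g (f y)).map (f.stalkMap y).hom = mT (f ≫ g) y := by
  show ((maximalIdeal (S.presheaf.stalk (g (f y)))).map (g.stalkMap (f y)).hom).map (f.stalkMap y).hom = _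
  rw [Ideal.map_map, ← CommRingCat.hom_comp, ← Scheme.Hom.stalkMap_comp]
  rfl

/-- With regular fibre upstairs, regularity in the fibre is the complete intersection property. -/
theorem fibReg_iff_isCI [LocallyOfFiniteType g] [LocallyOfFiniteType (f ≫ g)]
    [IsRegularLocalRing (CInt.fiberStalk g (f y))] :
    FibReg g f y ↔ Pi1.IsCompleteIntersection (CInt.fiberStalk (f ≫ g) y) := by
  obtain ⟨e⟩ := exists_fiberStalkEquiv g (f y)
  haveI : IsRegularLocalRing (X.presheaf.stalk (f y) ⧸ mT g (f y)) := IsRegularLocalRing.of_ringEquiv e.symm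
  obtain ⟨e'⟩ := exists_fiberStalkEquiv (f ≫ g) y
  let π : (X.presheaf.stalk (f y) ⧸ mT g (f y)) →+* (Y.presheaf.stalk y ⧸ mT (f ≫ g) y) :=
    Ideal.quotientMap _ (f.stalkMap y).hom (Ideal.le_comap_map.trans (Ideal.comap_mono (mT_map g f y).le))
  have hs := f.stalkMap_surjective y
  have hker : RingHom.ker π =
      (RingHom.ker (f.stalkMap y).hom).map (Ideal.Quotient.mk (mT g (f y))) := by
    ext q
    obtain ⟨c, rfl⟩ := Ideal.Quotient.mk_surjective q
    rw [RingHom.mem_ker, Ideal.quotientMap_mk, Ideal.Quotient.eq_zero_iff_mem, ← mT_map g f y, ← Ideal.mem_comap,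
      Ideal.comap_map_of_surjective' _ hs]
    conv_rhs => rw [← Ideal.mem_comap, Ideal.comap_map_of_surjective' _ Ideal.Quotient.mk_surjective, Ideal.mk_ker]
    rw [sup_comm]
  rw [FibReg, ← hker, RegNear6.isRegularIdeal_ker_iff π (Ideal.quotientMap_surjective hs)]
  haveI : IsNoetherianRing (CInt.fiberStalk (f ≫ g) y) := isNoetherianRing_of_ringEquiv _ e'
  exact AvramovLib.isCI_ringEquiv_iff e'

/-- A closed immersion regular near a point, flat over the base there, is regular in the fibre. -/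
theorem fibReg_of_regNear_at [LocallyOfFiniteType g] (hflat : ((f ≫ g).stalkMap y).hom.Flat)
    (h : RegNear6.RegNear f y) : FibReg g f y := by
  obtain ⟨V, hyV, -, hV⟩ := h
  obtain ⟨U, hU, hyU, rs, hrs, hker⟩ := hV ⟨y, hyV⟩
  rw [RegNear6.ker_ideal_restrict f V hU] at hker
  have hyD : f y ∈ V.ι ''ᵁ U := ⟨_, hyU, morphismRestrict_base_coe f V ⟨y, hyV⟩⟩
  have hD : IsAffineOpen (V.ι ''ᵁ U) := hU.image_of_isOpenImmersion V.ι
  let rs' : List Γ(X, V.ι ''ᵁ U) := rs
  have hrs' : IsWeaklyRegular Γ(X, V.ι ''ᵁ U) rs' := hrs.toIsWeaklyRegular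
  let D := V.ι ''ᵁ U
  letI : Algebra Γ(X, D) (X.presheaf.stalk (f y)) := (X.presheaf.germ D (f y) hyD).hom.toAlgebra
  haveI : IsLocalization.AtPrime (X.presheaf.stalk (f y)) (hD.primeIdealOf ⟨f y, hyD⟩).asIdeal :=
    hD.isLocalization_stalk ⟨f y, hyD⟩
  haveI : Module.Flat Γ(X, D) (X.presheaf.stalk (f y)) :=
    IsLocalization.flat _ (hD.primeIdealOf ⟨f y, hyD⟩).asIdeal.primeCompl
  let l : List (X.presheaf.stalk (f y)) := (rs' : List Γ(X, D)).map (algebraMap Γ(X, D) (X.presheaf.stalk (f y)))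
  have hJ : Ideal.ofList l = RingHom.ker (f.stalkMap y).hom := by
    rw [RegConormal.ker_stalkMap_eq_map f y ⟨D, hD⟩ hyD inferInstance]
    exact ((congrArg (Ideal.map (X.presheaf.germ D (f y) hyD).hom) hker).trans (Ideal.map_ofList _ _)).symm
  letI : Algebra (S.presheaf.stalk (g (f y))) (X.presheaf.stalk (f y)) := (g.stalkMap (f y)).hom.toAlgebra
  letI : Algebra (S.presheaf.stalk (g (f y))) (Y.presheaf.stalk y) :=
    ((f.stalkMap y).hom.comp (g.stalkMap (f y)).hom).toAlgebra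
  haveI : Module.Flat (S.presheaf.stalk (g (f y))) (Y.presheaf.stalk y) := by
    have h2 := hflat
    rw [Scheme.Hom.stalkMap_comp, CommRingCat.hom_comp] at h2
    exact h2
  let π' : X.presheaf.stalk (f y) →ₐ[S.presheaf.stalk (g (f y))] Y.presheaf.stalk y :=
    { (f.stalkMap y).hom with commutes' := fun _ => rfl }
  haveI : Module.Flat (S.presheaf.stalk (g (f y))) (X.presheaf.stalk (f y) ⧸ Ideal.ofList l) :=
    Module.Flat.of_linearEquiv (((Ideal.quotientEquivAlgOfEq (S.presheaf.stalk (g (f y))) hJ).trans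
      (Ideal.quotientKerAlgEquivOfSurjective (f := π') (f.stalkMap_surjective y))).toLinearEquiv)
  haveI : IsNoetherianRing (X.presheaf.stalk (f y) ⧸
      (maximalIdeal (S.presheaf.stalk (g (f y)))).map (algebraMap (S.presheaf.stalk (g (f y))) (X.presheaf.stalk (f y)))) :=
    inferInstanceAs (IsNoetherianRing (X.presheaf.stalk (f y) ⧸ mT g (f y)))
  have h3 := isRegularIdeal_map_fib (maximalIdeal (S.presheaf.stalk (g (f y)))) (mT_le g (f y)) l
    (IsWeaklyRegular.of_flat hrs')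
    (fun r hr => IsLocalRing.le_maximalIdeal (RingHom.ker_ne_top (f.stalkMap y).hom) (hJ ▸ Ideal.subset_span hr))
  rw [hJ] at h3
  exact h3

/-- A closed immersion regular near a point, flat over the base, is regular in the fibre. -/
theorem fibReg_of_regNear [LocallyOfFiniteType g] [Flat (f ≫ g)] (h : RegNear6.RegNear f y) : FibReg g f y :=
  fibReg_of_regNear_at g f y (Flat.stalkMap (f ≫ g) y) h

/-- A regular sequence on a basic open generating the kernel gives a regular immersion near the point. -/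
theorem regNear_of_away {D : X.Opens} (hD : IsAffineOpen D) (hyD : f y ∈ D) (a : Γ(X, D))
    (ha : a ∉ (hD.primeIdealOf ⟨f y, hyD⟩).asIdeal) (rs : List (Localization.Away a))
    (hrs : IsRegular (Localization.Away a) rs)
    (hrsI : Ideal.ofList rs = (RingHom.ker (f.app D).hom).map (algebraMap Γ(X, D) (Localization.Away a))) :
    RegNear6.RegNear f y := by
  obtain ⟨hD', hDs⟩ := Synt29.surjective_app_of_isClosedImmersion_restrict f D hD
  letI : Algebra Γ(X, D) Γ(X, X.basicOpen a) := (X.presheaf.map (homOfLE (X.basicOpen_le a)).op).hom.toAlgebra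
  haveI : IsLocalization.Away a Γ(X, X.basicOpen a) := hD.isLocalization_basicOpen a
  let e : Localization.Away a ≃ₐ[Γ(X, D)] Γ(X, X.basicOpen a) := IsLocalization.algEquiv (Submonoid.powers a) _ _
  have hyg : f y ∈ X.basicOpen a := by
    rw [← hD.fromSpec_image_basicOpen a]
    exact ⟨hD.primeIdealOf ⟨f y, hyD⟩, ha, hD.fromSpec_primeIdealOf _⟩
  refine ⟨X.basicOpen a, hyg, inferInstance, fun z => ?_⟩
  have himg : (X.basicOpen a).ι ''ᵁ ((X.basicOpen a).ι ⁻¹ᵁ X.basicOpen a) = X.basicOpen a := by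
    simp
  have hU : IsAffineOpen ((X.basicOpen a).ι ⁻¹ᵁ X.basicOpen a) :=
    ((X.basicOpen a).ι.isAffineOpen_iff_of_isOpenImmersion).1 (by rw [himg]; exact hD.basicOpen a)
  have key : ∀ (O : X.Opens), O = X.basicOpen a →
      ∃ rs' : List Γ(X, O), IsRegular Γ(X, O) rs' ∧ RingHom.ker (f.app O).hom = Ideal.ofList rs' := by
    rintro O rfl
    refine ⟨rs.map e, ?_, ?_⟩
    · refine (AddEquiv.isRegular_congr (e := e.toRingEquiv.toAddEquiv) (as := rs) (bs := rs.map e) ?_).1 hrs
      exact List.forall₂_map_right_iff.2 (List.forall₂_same.2 fun x _ y => map_mul e x y)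
    · refine Eq.trans (KRegLib.app_basicOpen_props f hD hD' hDs a).2.2 ?_
      have h4 : (Ideal.ofList rs).map e.toRingEquiv.toRingHom = Ideal.ofList (rs.map e) := Ideal.map_ofList _ _
      rw [← h4, hrsI, Ideal.map_map]
      congr 1
      exact (RingHom.ext fun x => (e.commutes x)).symm
  obtain ⟨rs', hrs', hker⟩ := key _ himg
  refine ⟨_, hU, ?_, rs', hrs', (RegNear6.ker_ideal_restrict f _ hU).trans hker⟩
  exact ((f ∣_ X.basicOpen a) z).2

/-- A morphism flat at all points of an affine open is flat on its sections. -/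
theorem flat_appLE_of_stalks {W : S.Opens} (hW : IsAffineOpen W) {D : X.Opens} (hD : IsAffineOpen D)
    (e : D ≤ g ⁻¹ᵁ W) (h : ∀ z ∈ D, (g.stalkMap z).hom.Flat) : (g.appLE W D e).hom.Flat := by
  rw [← Flat.SpecMap_iff]
  refine Flat.of_stalkMap _ fun z => ?_
  have hz : hD.fromSpec z ∈ D := by
    have := Set.mem_range_self (f := hD.fromSpec) z
    rwa [hD.range_fromSpec] at this
  have h1 : ((hD.fromSpec ≫ g).stalkMap z).hom.Flat := by
    rw [Scheme.Hom.stalkMap_comp, CommRingCat.hom_comp]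
    exact RingHom.Flat.comp (h _ hz)
      (RingHom.Flat.of_bijective (ConcreteCategory.bijective_of_isIso (hD.fromSpec.stalkMap z)))
  rw [Scheme.Hom.stalkMap_congr_hom _ _ (hW.SpecMap_appLE_fromSpec g hD e).symm z,
    Scheme.Hom.stalkMap_comp] at h1
  have key : ∀ {A B C : CommRingCat.{u}} (a : A ⟶ B) [IsIso a] (b : B ⟶ C), (a ≫ b).hom.Flat → b.hom.Flat :=
    fun a _ b hab => (RingHom.Flat.respectsIso.cancel_left_isIso a b).1 hab
  have hpt : (hD.fromSpec ≫ g) z = (Spec.map (g.appLE W D e) ≫ hW.fromSpec) z := by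
    rw [hW.SpecMap_appLE_fromSpec g hD e]
  haveI : IsIso (S.presheaf.stalkSpecializes (Inseparable.of_eq hpt).specializes) :=
    inferInstanceAs (IsIso (TopCat.Presheaf.stalkCongr _ (Inseparable.of_eq hpt).symm).hom)
  first
    | exact key _ _ (key _ _ h1)
    | exact key _ _ (@key _ _ _ _ (inferInstanceAs (IsIso (TopCat.Presheaf.stalkCongr _ (Inseparable.of_eq hpt)).hom)) _ h1)

/-- Regularity in the fibre lifts, for morphisms locally of finite presentation flat at the point. -/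
theorem regNear_of_fibReg_at [LocallyOfFinitePresentation g] (hg : (g.stalkMap (f y)).hom.Flat)
    [LocallyOfFinitePresentation (f ≫ g)] (hfg : ((f ≫ g).stalkMap y).hom.Flat) (h : FibReg g f y) :
    RegNear6.RegNear f y := by
  obtain ⟨W, hW, hyW, -⟩ := exists_isAffineOpen_mem_and_subset (x := g (f y)) (U := (⊤ : S.Opens)) trivial
  let L : Y.Opens := ⟨_, FlatLocus.isOpen_flat_locus (f ≫ g)⟩
  let V : X.Opens := ⟨(f '' (L : Set Y)ᶜ)ᶜ, (f.isClosedEmbedding.isClosedMap _ L.isOpen.isClosed_compl).isOpen_compl⟩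
  have hyV : f y ∈ V := fun ⟨y', hy', e⟩ => hy' (f.isClosedEmbedding.injective e ▸ hfg)
  obtain ⟨D, hD, hyD, hDW'⟩ := exists_isAffineOpen_mem_and_subset (x := f y)
    (U := g ⁻¹ᵁ W ⊓ (⟨_, FlatLocus.isOpen_flat_locus g⟩ : X.Opens) ⊓ V) ⟨⟨hyW, hg⟩, hyV⟩
  have hDW : D ≤ g ⁻¹ᵁ W := fun z hz => (hDW' hz).1.1
  have hDV : ∀ z ∈ f ⁻¹ᵁ D, ((f ≫ g).stalkMap z).hom.Flat := fun z hz => by
    by_contra hzL
    exact (hDW' hz).2 ⟨z, hzL, rfl⟩
  obtain ⟨hD', hDs⟩ := Synt29.surjective_app_of_isClosedImmersion_restrict f D hD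
  letI := (g.appLE W D hDW).hom.toAlgebra
  haveI : Algebra.FinitePresentation Γ(S, W) Γ(X, D) := g.finitePresentation_appLE hW hD hDW
  haveI : Module.Flat Γ(S, W) Γ(X, D) :=
    flat_appLE_of_stalks g hW hD hDW fun z hz => (hDW' hz).1.2
  have hDW' : f ⁻¹ᵁ D ≤ (f ≫ g) ⁻¹ᵁ W := fun z hz => hDW hz
  letI : Algebra Γ(S, W) Γ(Y, f ⁻¹ᵁ D) := ((f ≫ g).appLE W (f ⁻¹ᵁ D) hDW').hom.toAlgebra
  haveI : Algebra.FinitePresentation Γ(S, W) Γ(Y, f ⁻¹ᵁ D) := (f ≫ g).finitePresentation_appLE hW hD' hDW'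
  haveI : Module.Flat Γ(S, W) Γ(Y, f ⁻¹ᵁ D) :=
    flat_appLE_of_stalks (f ≫ g) hW hD' hDW' hDV
  have hcomp : g.appLE W D hDW ≫ f.app D = (f ≫ g).appLE W (f ⁻¹ᵁ D) hDW' := by
    rw [Scheme.Hom.app_eq_appLE, Scheme.Hom.appLE_comp_appLE]
  let ψ : Γ(X, D) →ₐ[Γ(S, W)] Γ(Y, f ⁻¹ᵁ D) :=
    { (f.app D).hom with commutes' := fun r => congrArg (fun φ => φ.hom r) hcomp }
  let I := RingHom.ker (f.app D).hom
  have hfg : I.FG := Algebra.FinitePresentation.ker_fG_of_surjective ψ hDs
  haveI : Module.Flat Γ(S, W) (Γ(X, D) ⧸ I) :=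
    Module.Flat.of_linearEquiv (Ideal.quotientKerAlgEquivOfSurjective (f := ψ) hDs).toLinearEquiv
  let Q := (hD.primeIdealOf ⟨f y, hyD⟩).asIdeal
  let p := (hW.primeIdealOf ⟨g (f y), hyW⟩).asIdeal
  haveI : Q.LiesOver p := ⟨by
    have hc := congrArg PrimeSpectrum.asIdeal
      (IsAffineOpen.comap_primeIdealOf_appLE (f := g) W hW D hD hDW hyD)
    exact hc.symm⟩
  letI : Algebra Γ(X, D) (X.presheaf.stalk (f y)) := (X.presheaf.germ D (f y) hyD).hom.toAlgebra
  letI : Algebra Γ(S, W) (S.presheaf.stalk (g (f y))) := (S.presheaf.germ W (g (f y)) hyW).hom.toAlgebra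
  haveI : IsLocalization.AtPrime (X.presheaf.stalk (f y)) Q := hD.isLocalization_stalk ⟨f y, hyD⟩
  haveI : IsLocalization.AtPrime (S.presheaf.stalk (g (f y))) p := hW.isLocalization_stalk ⟨g (f y), hyW⟩
  have hgerm : g.appLE W D hDW ≫ X.presheaf.germ D (f y) hyD =
      S.presheaf.germ W (g (f y)) hyW ≫ g.stalkMap (f y) := by
    rw [Scheme.Hom.germ_stalkMap, Scheme.Hom.appLE, Category.assoc, X.presheaf.germ_res]
  have hP : (p.map (algebraMap Γ(S, W) Γ(X, D))).map (algebraMap Γ(X, D) (X.presheaf.stalk (f y))) = mT g (f y) := by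
    rw [mT, ← IsLocalization.AtPrime.map_eq_maximalIdeal p (S.presheaf.stalk (g (f y))), Ideal.map_map, Ideal.map_map]
    exact congrArg (fun φ : Γ(S, W) ⟶ X.presheaf.stalk (f y) => p.map φ.hom) hgerm
  haveI : IsNoetherianRing (X.presheaf.stalk (f y) ⧸
      (p.map (algebraMap Γ(S, W) Γ(X, D))).map (algebraMap Γ(X, D) (X.presheaf.stalk (f y)))) := by
    rw [hP]; infer_instance
  haveI : IsLocalRing (X.presheaf.stalk (f y) ⧸
      (p.map (algebraMap Γ(S, W) Γ(X, D))).map (algebraMap Γ(X, D) (X.presheaf.stalk (f y)))) := by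
    rw [hP]; infer_instance
  obtain ⟨a, ha, rs, hrs, hrsI⟩ := exists_isRegular_of_fib I hfg p Q
    (KRegLib.ker_app_le_primeIdealOf f hD hD' y hyD) (X.presheaf.stalk (f y)) (by
      have h' := h
      rw [FibReg, RegConormal.ker_stalkMap_eq_map f y ⟨D, hD⟩ hyD inferInstance] at h'
      rw [hP]
      exact h')
  exact regNear_of_away f y hD hyD a ha rs hrs hrsI

/-- Regularity in the fibre lifts, for flat morphisms locally of finite presentation. -/
theorem regNear_of_fibReg [Flat g] [LocallyOfFinitePresentation g] [Flat (f ≫ g)]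
    [LocallyOfFinitePresentation (f ≫ g)] (h : FibReg g f y) : RegNear6.RegNear f y :=
  regNear_of_fibReg_at g f y (Flat.stalkMap g (f y)) (Flat.stalkMap (f ≫ g) y) h

end Groth.Agent.TransFib6
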