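import Groth.Agent.CplFib6.Sop
import Groth.Agent.CILib.Basic
import Groth.Agent.RegLoc6.Seq
import Groth.Agent.RegNear6.Stalk
import Groth.Agent.ArtFunLib.HilbRing
import Groth.Prelude.Def_RegImm

/-!
# Transversally regular sequences and the closed fibre
-/

set_option autoImplicit false
set_option linter.style.haveILetI false

universe u

open IsLocalRing RingTheory.Sequence

namespace Groth.Agent.TransFib6

variable {A C : Type u} [CommRing A] [IsLocalRing A] [CommRing C] [Algebra A C]

/-- With flat quotient, the extended ideal meets an ideal in the product. -/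
theorem inf_mB_le (J : Ideal C) [Module.Flat A (C ⧸ J)] :
    J ⊓ EGA4.mB A C ≤ EGA4.mB A C * J := by
  refine ArtFunLib.HilbRing.inf_map_le (algebraMap A C) ?_ (maximalIdeal A)
  exact RingHom.flat_algebraMap_iff.2 (inferInstance : Module.Flat A (C ⧸ J))

theorem mem_ofList_append_singleton {rs : List C} {r z : C} :
    z ∈ Ideal.ofList (rs ++ [r]) → ∃ j ∈ Ideal.ofList rs, ∃ w : C, j + w * r = z := by
  intro h
  rw [Ideal.ofList_append, Ideal.ofList_singleton, Submodule.mem_sup] at h
  obtain ⟨j, hj, k, hk, rfl⟩ := h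
  obtain ⟨w, rfl⟩ := Ideal.mem_span_singleton'.1 hk
  exact ⟨j, hj, w, rfl⟩

theorem mem_mB_mul_append_singleton {rs : List C} {r z : C}
    (h : z ∈ EGA4.mB A C * Ideal.ofList (rs ++ [r])) :
    ∃ j ∈ Ideal.ofList rs, ∃ w ∈ EGA4.mB A C, j + w * r = z := by
  rw [Ideal.ofList_append, Ideal.ofList_singleton, Ideal.mul_sup, Submodule.mem_sup] at h
  obtain ⟨j, hj, k, hk, rfl⟩ := h
  obtain ⟨w, hw, rfl⟩ := Ideal.mem_mul_span_singleton.1 hk
  exact ⟨j, Ideal.mul_le_right (I := EGA4.mB A C) hj, w, hw, rfl⟩

/-- A transversally regular sequence is regular on the closed fibre. -/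
theorem isWeaklyRegular_fib (rs : List C) (h : RegImm.IsTransRegularSeq A C rs) :
    IsWeaklyRegular (EGA4.FibRing A C) (rs.map (Ideal.Quotient.mk (EGA4.mB A C))) := by
  induction rs using List.reverseRecOn with
  | nil => exact IsWeaklyRegular.nil _ _
  | append_singleton rs r ih =>
    obtain ⟨hreg, hflat⟩ := h
    rw [LC.isWeaklyRegular_concat_iff] at hreg
    rw [List.map_append, List.map_singleton, LC.isWeaklyRegular_concat_iff]
    refine ⟨ih ⟨hreg.1, fun j hj => ?_⟩, ?_⟩
    · have := hflat j (by rw [List.length_append]; omega)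
      rwa [List.take_append_of_le_length hj] at this
    · haveI : Module.Flat A (C ⧸ Ideal.ofList (rs ++ [r])) := by
        have := hflat (rs ++ [r]).length le_rfl
        rwa [List.take_length] at this
      let π := Ideal.Quotient.mk (EGA4.mB A C)
      have hs : ∀ c : C, c ∈ EGA4.mB A C ⊔ Ideal.ofList rs ↔ π c ∈ Ideal.ofList (rs.map π) := fun c => by
        rw [← Ideal.map_ofList, ← Ideal.mem_comap, Ideal.comap_map_of_surjective π Ideal.Quotient.mk_surjective,
          ← RingHom.ker_eq_comap_bot, Ideal.mk_ker, sup_comm]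
      have hr : ∀ c : C, r * c ∈ Ideal.ofList rs → c ∈ Ideal.ofList rs := by
        intro c hc
        have h0 := (isSMulRegular_iff_right_eq_zero_of_smul.mp hreg.2)
          (Submodule.Quotient.mk (p := (Ideal.ofList rs • ⊤ : Submodule C C)) c)
        rw [← Submodule.Quotient.mk_smul, Submodule.Quotient.mk_eq_zero, Submodule.Quotient.mk_eq_zero,
          smul_eq_mul, smul_eq_mul, Ideal.mul_top] at h0
        exact h0 hc
      rw [isSMulRegular_iff_right_eq_zero_of_smul]
      intro q hq
      obtain ⟨q, rfl⟩ := Submodule.Quotient.mk_surjective _ q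
      obtain ⟨z, rfl⟩ := Ideal.Quotient.mk_surjective q
      rw [← Submodule.Quotient.mk_smul, Submodule.Quotient.mk_eq_zero, smul_eq_mul, smul_eq_mul, Ideal.mul_top,
        ← map_mul, ← hs, Submodule.mem_sup] at hq
      rw [Submodule.Quotient.mk_eq_zero, smul_eq_mul, Ideal.mul_top, ← hs]
      obtain ⟨m, hm, j, hj, hmj⟩ := hq
      have hmem : m ∈ Ideal.ofList (rs ++ [r]) := by
        rw [eq_sub_of_add_eq hmj, Ideal.ofList_append, Ideal.ofList_singleton]
        exact sub_mem (Ideal.mem_sup_right (Ideal.mul_mem_right _ _ (Ideal.mem_span_singleton_self r)))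
          (Ideal.mem_sup_left hj)
      obtain ⟨j', hj', w, hw, hwm⟩ := mem_mB_mul_append_singleton (inf_mB_le (A := A) _ ⟨hmem, hm⟩)
      have hz : r * (z - w) ∈ Ideal.ofList rs := by
        rw [show r * (z - w) = j + j' by linear_combination -hmj - hwm]
        exact add_mem hj hj'
      have := Submodule.add_mem_sup hw (hr _ hz)
      rwa [add_sub_cancel] at this

variable [IsNoetherianRing C] [IsLocalRing C] [IsLocalHom (algebraMap A C)]

/-- Elements regular on the closed fibre and generating an ideal with flat quotient modulo the extended ideal. -/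
theorem eq_ofList_of_fib (J : Ideal C) [Module.Flat A (C ⧸ J)] (rs : List C)
    (hrs : Ideal.ofList rs ≤ J)
    (h : J.map (Ideal.Quotient.mk (EGA4.mB A C)) ≤ Ideal.ofList (rs.map (Ideal.Quotient.mk (EGA4.mB A C)))) :
    Ideal.ofList rs = J := by
  refine le_antisymm hrs ?_
  refine Submodule.le_of_le_smul_of_le_jacobson_bot (IsNoetherian.noetherian J)
    (maximalIdeal_le_jacobson ⊥) ?_
  intro x hx
  have h1 : x ∈ EGA4.mB A C ⊔ Ideal.ofList rs := by
    have := h (Ideal.mem_map_of_mem _ hx)
    rwa [← Ideal.map_ofList, ← Ideal.mem_comap, Ideal.comap_map_of_surjective _ Ideal.Quotient.mk_surjective,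
      ← RingHom.ker_eq_comap_bot, Ideal.mk_ker, sup_comm] at this
  obtain ⟨m, hm, j, hj, rfl⟩ := Submodule.mem_sup.1 h1
  have h2 : m ∈ EGA4.mB A C * J := inf_mB_le (A := A) J ⟨by simpa using sub_mem hx (hrs hj), hm⟩
  rw [add_comm]
  exact Submodule.add_mem_sup hj (Ideal.mul_mono_left (map_maximalIdeal_le (algebraMap A C)) h2)

end Groth.Agent.TransFib6
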