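import Groth.Agent.SrcDescent.FlatModelAlg
import Groth.Agent.FlatModel.Open
import Groth.Agent.Synt29.KoszulPresentation
import Groth.Agent.EtGlue7.Flat
import Groth.Agent.S2361
import Mathlib.Algebra.Colimit.TensorProduct
import Mathlib.RingTheory.Regular.RegularSequence

/-!
# Flatness from a regular element with flat quotient, without noetherian hypotheses
-/

set_option autoImplicit false
set_option linter.style.haveILetI false
set_option synthInstance.maxHeartbeats 400000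
set_option backward.isDefEq.respectTransparency.types false
set_option maxSynthPendingDepth 3

universe u

open TensorProduct

namespace Groth.Agent.TransFib6

section Descent

variable {R O M : Type u} [CommRing R] [CommRing O] [Algebra R O] [CommRing M] [Algebra R M]

/-- The map of base changes given by an inclusion of subalgebras. -/
noncomputable abbrev inc {R₁ R₂ : Subalgebra R O} (h : R₁ ≤ R₂) : R₁ ⊗[R] M →ₐ[R] R₂ ⊗[R] M :=
  Algebra.TensorProduct.map (Subalgebra.inclusion h) (AlgHom.id R M)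

/-- The map from the base change to a subalgebra. -/
noncomputable abbrev toTop (R₁ : Subalgebra R O) : R₁ ⊗[R] M →ₐ[R] O ⊗[R] M :=
  Algebra.TensorProduct.map R₁.val (AlgHom.id R M)

theorem inc_inc {R₁ R₂ R₃ : Subalgebra R O} (h : R₁ ≤ R₂) (h' : R₂ ≤ R₃) (x : R₁ ⊗[R] M) :
    inc h' (inc h x) = inc (h.trans h') x := by
  induction x using TensorProduct.induction_on with
  | zero => simp
  | tmul a m => rfl
  | add x y hx hy => simp only [map_add, hx, hy]

theorem toTop_inc {R₁ R₂ : Subalgebra R O} (h : R₁ ≤ R₂) (x : R₁ ⊗[R] M) :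
    toTop R₂ (inc h x) = toTop R₁ x := by
  induction x using TensorProduct.induction_on with
  | zero => simp
  | tmul a m => rfl
  | add x y hx hy => simp only [map_add, hx, hy]

theorem exists_fg_mem_range (x : O ⊗[R] M) : ∃ R₁ : Subalgebra R O, R₁.FG ∧ ∃ y, toTop R₁ y = x := by
  induction x using TensorProduct.induction_on with
  | zero => exact ⟨⊥, Subalgebra.fg_bot, 0, map_zero _⟩
  | tmul a m =>
    exact ⟨Algebra.adjoin R {a}, Subalgebra.fg_adjoin_finset {a} |> (fun h => by simpa using h),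
      (⟨a, Algebra.self_mem_adjoin_singleton R a⟩ : Algebra.adjoin R {a}) ⊗ₜ m, rfl⟩
  | add x y hx hy =>
    obtain ⟨R₁, h₁, a, rfl⟩ := hx
    obtain ⟨R₂, h₂, b, rfl⟩ := hy
    exact ⟨R₁ ⊔ R₂, h₁.sup h₂, inc (le_sup_left : R₁ ≤ R₁ ⊔ R₂) a + inc (le_sup_right : R₂ ≤ R₁ ⊔ R₂) b,
      by rw [map_add, toTop_inc, toTop_inc]⟩

theorem exists_fg_eq_zero {R₁ : Subalgebra R O} (h₁ : R₁.FG) (y : R₁ ⊗[R] M) (hy : toTop R₁ y = 0) :
    ∃ (R₂ : Subalgebra R O) (h : R₁ ≤ R₂), R₂.FG ∧ inc h y = 0 := by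
  obtain ⟨J, hJ, z, rfl⟩ := Submodule.exists_fg_le_eq_rTensor_subtype (R := R) (N := R₁) (M := M) y
  let ι : J →ₗ[R] O := R₁.val.toLinearMap.comp J.subtype
  let N : Submodule R O := J.map R₁.val.toLinearMap
  have hN : N.FG := hJ.map _
  let j : J →ₗ[R] N := R₁.val.toLinearMap.submoduleMap J
  have h0 : N.subtype.rTensor M (j.rTensor M z) = N.subtype.rTensor M 0 := by
    rw [map_zero, ← hy, ← LinearMap.rTensor_comp_apply]
    clear hy
    induction z using TensorProduct.induction_on with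
    | zero => simp
    | tmul a m => rfl
    | add a b ha hb => simp only [map_add, ha, hb]
  obtain ⟨N', hN', hle, he⟩ := hN.exists_rTensor_fg_inclusion_eq h0
  rw [map_zero] at he
  obtain ⟨s, hs⟩ := hN'
  let R₂ := R₁ ⊔ Algebra.adjoin R (s : Set O)
  refine ⟨R₂, le_sup_left, h₁.sup (Subalgebra.fg_adjoin_finset s), ?_⟩
  have hN'R : N' ≤ Subalgebra.toSubmodule R₂ :=
    hs ▸ Submodule.span_le.2 fun a ha => (le_sup_right : _ ≤ R₂) (Algebra.subset_adjoin ha)
  have key : inc (le_sup_left : R₁ ≤ R₂) (J.subtype.rTensor M z) =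
      (Submodule.inclusion hN'R).rTensor M ((Submodule.inclusion hle).rTensor M (j.rTensor M z)) := by
    clear he h0 hy
    induction z using TensorProduct.induction_on with
    | zero => simp
    | tmul a m => rfl
    | add a b ha hb => simp only [map_add, ha, hb]; try rfl
  rw [key, he, map_zero]

end Descent

/-- With flat cokernel, the kernel of a multiplication commutes with base change. -/
theorem mem_map_of_mul_eq_zero {R A S : Type u} [CommRing R] [CommRing A] [Algebra R A] [CommRing S] [Algebra R S]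
    (f : A) [Module.Flat R (A ⧸ Ideal.span {f})] (K : Ideal A) (hK : ∀ a, f * a = 0 → a ∈ K) (y : S ⊗[R] A)
    (hy : (1 : S) ⊗ₜ[R] f * y = 0) :
    y ∈ K.map (Algebra.TensorProduct.includeRight : A →ₐ[R] S ⊗[R] A) := by
  let μ : A →ₗ[R] A := LinearMap.mulLeft R f
  let π : A →ₗ[R] A ⧸ Ideal.span {f} := (Ideal.Quotient.mkₐ R (Ideal.span {f})).toLinearMap
  have hex : Function.Exact (LinearMap.range μ).subtype π := fun a => by
    show Ideal.Quotient.mk _ a = 0 ↔ a ∈ Set.range _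
    rw [Ideal.Quotient.eq_zero_iff_mem, Ideal.mem_span_singleton']
    constructor
    · rintro ⟨c, rfl⟩; exact ⟨⟨c * f, c, mul_comm f c⟩, rfl⟩
    · rintro ⟨⟨_, c, rfl⟩, rfl⟩; exact ⟨c, mul_comm c f⟩
  have hinj : Function.Injective ((LinearMap.range μ).subtype.lTensor S) := by
    rw [LinearMap.lTensor_inj_iff_rTensor_inj]
    exact EtGlue7.rTensor_injective_of_flat _ π hex Ideal.Quotient.mk_surjective Subtype.val_injective S
  have hμ : μ.rangeRestrict.lTensor S y = 0 := hinj (by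
    rw [map_zero, ← LinearMap.lTensor_comp_apply, ← hy]
    clear hy
    induction y using TensorProduct.induction_on with
    | zero => simp
    | tmul s a => simp [μ]
    | add a b ha hb => simp only [map_add, ha, hb, mul_add])
  obtain ⟨z, rfl⟩ := (lTensor_exact S (g := μ.rangeRestrict) (f := (LinearMap.ker μ).subtype)
    (fun a => by rw [← LinearMap.mem_ker, LinearMap.ker_rangeRestrict]; exact ⟨fun h => ⟨⟨a, h⟩, rfl⟩, fun ⟨b, hb⟩ => hb ▸ b.2⟩)
    μ.surjective_rangeRestrict y).1 hμ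
  clear hμ hy
  induction z using TensorProduct.induction_on with
  | zero => simp
  | tmul s a =>
    rw [LinearMap.lTensor_tmul, show s ⊗ₜ[R] (LinearMap.ker μ).subtype a =
      (s ⊗ₜ[R] (1 : A)) * ((1 : S) ⊗ₜ[R] (a : A)) by simp]
    exact Ideal.mul_mem_left _ _ (Ideal.mem_map_of_mem _ (hK _ a.2))
  | add a b ha hb => rw [map_add]; exact add_mem ha hb

/-- Flatness at a prime from a regular element with flat quotient, over a noetherian base. -/
theorem flat_atPrime_noetherian {R A : Type u} [CommRing R] [IsNoetherianRing R] [CommRing A] [Algebra R A]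
    [IsNoetherianRing A] (f : A) (Q : Ideal A) [Q.IsPrime] (hf : f ∈ Q) [Module.Flat R (A ⧸ Ideal.span {f})]
    (hreg : ∀ a, f * a = 0 → ∃ w ∉ Q, w * a = 0) :
    Module.Flat R (Localization.AtPrime Q) := by
  let T := Localization.AtPrime Q
  have hregT : IsSMulRegular T (algebraMap A T f) := by
    refine isSMulRegular_iff_right_eq_zero_of_smul.2 fun z hz => ?_
    obtain ⟨⟨a, σ⟩, rfl⟩ := IsLocalization.mk'_surjective Q.primeCompl z
    rw [smul_eq_mul, IsLocalization.mul_mk'_eq_mk'_of_mul, IsLocalization.mk'_eq_zero_iff] at hz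
    obtain ⟨⟨σ', hσ'⟩, h0⟩ := hz
    obtain ⟨w, hw, hw0⟩ := hreg (σ' * a) (by rw [← h0]; ring)
    rw [IsLocalization.mk'_eq_zero_iff]
    exact ⟨⟨w * σ', Q.primeCompl.mul_mem hw hσ'⟩, by rw [Subtype.coe_mk, mul_assoc]; exact hw0⟩
  haveI : Module.Flat A T := IsLocalization.flat T Q.primeCompl
  have hq : Module.Flat R (T ⧸ (Ideal.span {f}).map (algebraMap A T)) :=
    Synt29.flat_quotient_localization R (Ideal.span {f})
  rw [Ideal.map_span, Set.image_singleton] at hq
  refine Groth.Agent.S2361.result (A := R) (algebraMap A T f)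
    ((IsLocalization.AtPrime.to_map_mem_maximal_iff T Q f).2 hf) T hregT ?_
  exact Module.Flat.of_linearEquiv ((Submodule.quotEquivOfEq _ _ (by
    rw [smul_eq_mul, Ideal.mul_top])).restrictScalars R)

/-- Flatness at a prime survives base change. -/
theorem flat_atPrime_baseChange {R O A₁ A : Type u} [CommRing R] [CommRing O] [Algebra R O] [CommRing A₁]
    [Algebra R A₁] [CommRing A] [Algebra O A] [Algebra A₁ A] [Algebra R A] [IsScalarTower R O A]
    [IsScalarTower R A₁ A] [Algebra.IsPushout R O A₁ A] (Q : Ideal A) [Q.IsPrime] (Q₁ : Ideal A₁) [Q₁.IsPrime]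
    (hQ : Q.comap (algebraMap A₁ A) = Q₁) [Module.Flat R (Localization.AtPrime Q₁)] :
    Module.Flat O (Localization.AtPrime Q) := by
  let T₁ := Localization.AtPrime Q₁
  let M := Algebra.algebraMapSubmonoid A Q₁.primeCompl
  have hMQ : M ≤ Q.primeCompl := by
    rintro _ ⟨x, hx, rfl⟩
    exact fun h => hx (hQ ▸ h)
  let B := Localization M
  letI : Algebra T₁ B := (IsLocalization.map B (algebraMap A₁ A) (M := Q₁.primeCompl) (T := M) (Submonoid.le_comap_map _) : T₁ →+* B).toAlgebra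
  haveI : IsScalarTower A₁ T₁ B := IsScalarTower.of_algebraMap_eq fun x => by
    rw [RingHom.algebraMap_toAlgebra, IsLocalization.map_eq]
    rfl
  haveI : IsScalarTower R T₁ B := IsScalarTower.of_algebraMap_eq fun x => by
    rw [IsScalarTower.algebraMap_apply R A₁ T₁, ← IsScalarTower.algebraMap_apply A₁ T₁ B,
      ← IsScalarTower.algebraMap_apply R A₁ B]
  haveI hpo1 : Algebra.IsPushout A₁ T₁ A B := (Algebra.isPushout_of_isLocalization Q₁.primeCompl T₁ A B).symm
  haveI : Algebra.IsPushout R A₁ O A := Algebra.IsPushout.symm ‹_›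
  haveI hpo2 : Algebra.IsPushout R T₁ O B :=
    (Algebra.IsPushout.comp_iff (R := R) (S := A₁) (R' := O) (S' := A) (T := T₁) (T' := B)).2 hpo1
  haveI : Module.Flat O B :=
    Module.Flat.isBaseChange R O T₁ B (Algebra.IsPushout.out (R := R) (S := O) (R' := T₁) (S' := B)
      (self := hpo2.symm))
  let T := Localization.AtPrime Q
  have hunit : ∀ y : M, IsUnit (algebraMap A T y) := fun y =>
    IsLocalization.map_units T (⟨y.1, hMQ y.2⟩ : Q.primeCompl)
  letI : Algebra B T := (IsLocalization.lift (S := B) hunit).toAlgebra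
  haveI : IsScalarTower A B T := IsScalarTower.of_algebraMap_eq fun z => by
    rw [RingHom.algebraMap_toAlgebra, IsLocalization.lift_eq]
  haveI : IsLocalization (Q.primeCompl.map (algebraMap A B)) T :=
    IsLocalization.isLocalization_of_submonoid_le B T M Q.primeCompl hMQ
  haveI : Module.Flat B T := IsLocalization.flat T (Q.primeCompl.map (algebraMap A B))
  haveI : IsScalarTower O B T := IsScalarTower.of_algebraMap_eq fun x => by
    rw [IsScalarTower.algebraMap_apply O A B, ← IsScalarTower.algebraMap_apply A B T,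
      ← IsScalarTower.algebraMap_apply O A T]
  exact Module.Flat.trans O B T

attribute [local instance] Algebra.TensorProduct.rightAlgebra

/-- Over a noetherian base: a regular element with flat quotient gives flatness after base change. -/
theorem flat_tensor_atPrime_of_regular_quot {R O A₂ : Type u} [CommRing R] [IsNoetherianRing R] [CommRing O]
    [Algebra R O] [CommRing A₂] [Algebra R A₂] [Algebra.FiniteType R A₂] (f : A₂)
    [Module.Flat R (A₂ ⧸ Ideal.span {f})] (Q : Ideal (O ⊗[R] A₂)) [Q.IsPrime] (hfQ : (1 : O) ⊗ₜ[R] f ∈ Q)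
    (hreg : ∀ t : O ⊗[R] A₂, (1 : O) ⊗ₜ[R] f * t = 0 → ∃ w ∉ Q, w * t = 0) :
    Module.Flat O (Localization.AtPrime Q) := by
  classical
  haveI : IsNoetherianRing A₂ := Algebra.FiniteType.isNoetherianRing R A₂
  let K : Ideal A₂ := LinearMap.ker (LinearMap.mulLeft A₂ f)
  obtain ⟨s, hs⟩ := (IsNoetherian.noetherian K : K.FG)
  have hw : ∀ x ∈ s, ∃ w, w ∉ Q ∧ w * ((1 : O) ⊗ₜ[R] x) = 0 := fun x hx => by
    refine (hreg _ ?_).imp fun w hw => hw
    have : f * x = 0 := (hs.le (Submodule.subset_span hx) : x ∈ K)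
    rw [Algebra.TensorProduct.tmul_mul_tmul, this, tmul_zero]
  choose w hwQ hw0 using hw
  let W : Q.primeCompl := ∏ x ∈ s.attach, ⟨w x.1 x.2, hwQ x.1 x.2⟩
  have hW0 : ∀ x ∈ s, (W : O ⊗[R] A₂) * ((1 : O) ⊗ₜ[R] x) = 0 := fun x hx => by
    show (↑(∏ x ∈ s.attach, (⟨w x.1 x.2, hwQ x.1 x.2⟩ : Q.primeCompl)) : O ⊗[R] A₂) * _ = 0
    rw [← Finset.mul_prod_erase _ _ (Finset.mem_attach s ⟨x, hx⟩), Submonoid.coe_mul, mul_comm (w x hx),
      mul_assoc, hw0 x hx, mul_zero]
  obtain ⟨R₁, hR₁, W₁, hW₁⟩ := exists_fg_mem_range (R := R) (W : O ⊗[R] A₂)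
  have hdesc : ∀ t : Finset A₂, t ⊆ s → ∃ (R₂ : Subalgebra R O) (h : R₁ ≤ R₂), R₂.FG ∧
      ∀ x ∈ t, inc h W₁ * ((1 : R₂) ⊗ₜ[R] x) = 0 := by
    intro t
    induction t using Finset.induction with
    | empty => exact fun _ => ⟨R₁, le_rfl, hR₁, by simp⟩
    | insert x t _ ih =>
      intro hts
      obtain ⟨R₂, h, hR₂, hR₂'⟩ := ih fun z hz => hts (Finset.mem_insert_of_mem hz)
      obtain ⟨R₃, h', hR₃, hR₃'⟩ := exists_fg_eq_zero hR₂ (inc h W₁ * ((1 : R₂) ⊗ₜ[R] x)) (by
        rw [map_mul, toTop_inc, hW₁, Algebra.TensorProduct.map_tmul, map_one]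
        exact hW0 x (hts (Finset.mem_insert_self _ _)))
      refine ⟨R₃, h.trans h', hR₃, fun z hz => ?_⟩
      rcases Finset.mem_insert.1 hz with rfl | hz
      · rw [map_mul, inc_inc, Algebra.TensorProduct.map_tmul, map_one] at hR₃'
        exact hR₃'
      · have := congrArg (inc h') (hR₂' z hz)
        rw [map_zero, map_mul, inc_inc, Algebra.TensorProduct.map_tmul, map_one] at this
        exact this
  obtain ⟨R₃, h₁₃, hR₃, hkill⟩ := hdesc s subset_rfl
  haveI : Algebra.FiniteType R R₃ := (Subalgebra.fg_iff_finiteType R₃).1 hR₃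
  haveI : IsNoetherianRing R₃ := Algebra.FiniteType.isNoetherianRing R R₃
  haveI : IsNoetherianRing (R₃ ⊗[R] A₂) := Algebra.FiniteType.isNoetherianRing R₃ (R₃ ⊗[R] A₂)
  let Q₃ : Ideal (R₃ ⊗[R] A₂) := Q.comap (toTop R₃)
  haveI : Q₃.IsPrime := Ideal.comap_isPrime _ _
  have hW₃ : inc h₁₃ W₁ ∉ Q₃ := by
    intro h
    rw [Ideal.mem_comap, toTop_inc, hW₁] at h
    exact W.2 h
  haveI : Module.Flat R₃ ((R₃ ⊗[R] A₂) ⧸ Ideal.span {(1 : R₃) ⊗ₜ[R] f}) := by
    have e := Algebra.TensorProduct.tensorQuotientEquiv (R := R) R₃ A₂ R₃ (Ideal.span {f})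
    rw [Ideal.map_span, Set.image_singleton] at e
    exact Module.Flat.of_linearEquiv e.symm.toLinearEquiv
  haveI : Module.Flat R₃ (Localization.AtPrime Q₃) :=
    flat_atPrime_noetherian ((1 : R₃) ⊗ₜ[R] f) Q₃ (show toTop R₃ _ ∈ Q by
      rw [Algebra.TensorProduct.map_tmul, map_one]; exact hfQ) fun a ha => by
      refine ⟨inc h₁₃ W₁, hW₃, ?_⟩
      have h1 := mem_map_of_mul_eq_zero (S := R₃) f K (fun a ha => ha) a ha
      have hle : K.map (Algebra.TensorProduct.includeRight : A₂ →ₐ[R] (R₃ ⊗[R] A₂)) ≤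
          LinearMap.ker (LinearMap.mulLeft (R₃ ⊗[R] A₂) (inc h₁₃ W₁)) := by
        rw [← hs, Ideal.map_span, Ideal.span_le]
        rintro _ ⟨x, hx, rfl⟩
        exact hkill x hx
      exact hle h1
  letI : Algebra (R₃ ⊗[R] A₂) (O ⊗[R] A₂) := (toTop R₃).toRingHom.toAlgebra
  haveI : IsScalarTower A₂ (R₃ ⊗[R] A₂) (O ⊗[R] A₂) := IsScalarTower.of_algebraMap_eq fun x => by
    show (1 : O) ⊗ₜ[R] x = toTop R₃ ((1 : R₃) ⊗ₜ[R] x)
    rw [Algebra.TensorProduct.map_tmul, map_one, AlgHom.id_apply]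
  haveI : IsScalarTower R₃ (R₃ ⊗[R] A₂) (O ⊗[R] A₂) := IsScalarTower.of_algebraMap_eq fun x => by
    show (algebraMap R₃ O x) ⊗ₜ[R] (1 : A₂) = toTop R₃ (x ⊗ₜ[R] (1 : A₂))
    rw [Algebra.TensorProduct.map_tmul, map_one]
    rfl
  haveI : IsScalarTower R (R₃ ⊗[R] A₂) (O ⊗[R] A₂) :=
    IsScalarTower.of_algebraMap_eq' ((toTop R₃).comp_algebraMap).symm
  haveI hpo : Algebra.IsPushout R₃ O (R₃ ⊗[R] A₂) (O ⊗[R] A₂) :=
    (Algebra.IsPushout.comp_iff (R := R) (S := R₃) (R' := A₂) (S' := (R₃ ⊗[R] A₂)) (T := O)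
      (T' := (O ⊗[R] A₂))).1 inferInstance
  exact flat_atPrime_baseChange (R := R₃) Q Q₃ rfl

/-- The case of a presentation defined over a noetherian base. -/
theorem flat_atPrime_aux {R₀ O A : Type u} [CommRing R₀] [IsNoetherianRing R₀] [CommRing O] [CommRing A]
    [Algebra R₀ O] [Algebra O A] (n : ℕ) (φ : MvPolynomial (Fin n) O →ₐ[O] A) (hφ : Function.Surjective φ)
    (G : Finset (MvPolynomial (Fin n) O)) (hG : Ideal.span (G : Set (MvPolynomial (Fin n) O)) = RingHom.ker φ)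
    (F : MvPolynomial (Fin n) O) (lg : MvPolynomial (Fin n) O → MvPolynomial (Fin n) R₀)
    (hlg : ∀ g, g = F ∨ g ∈ G → MvPolynomial.map (algebraMap R₀ O) (lg g) = g)
    [Module.Flat O (A ⧸ Ideal.span {φ F})] (Q : Ideal A) [Q.IsPrime] (hf : φ F ∈ Q)
    (hreg : ∀ t, φ F * t = 0 → ∃ w ∉ Q, w * t = 0) :
    Module.Flat O (Localization.AtPrime Q) := by
  classical
  let I₀ : Ideal (MvPolynomial (Fin n) R₀) := Ideal.span (lg '' (G : Set (MvPolynomial (Fin n) O)))
  let L₀ : Ideal (MvPolynomial (Fin n) R₀) := I₀ ⊔ Ideal.span {lg F}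
  have hI₀ : I₀.map (MvPolynomial.map (algebraMap R₀ O)) = RingHom.ker φ := by
    rw [show RingHom.ker φ = Ideal.span (G : Set (MvPolynomial (Fin n) O)) from hG.symm, Ideal.map_span,
      Set.image_image, Set.image_congr fun g hg => hlg g (Or.inr hg), Set.image_id']
  let φ₂ : MvPolynomial (Fin n) O →ₐ[O] A ⧸ Ideal.span {φ F} := (Ideal.Quotient.mkₐ O _).comp φ
  have hφ₂ : Function.Surjective φ₂ := Ideal.Quotient.mk_surjective.comp hφ
  have hL₀ : L₀.map (MvPolynomial.map (algebraMap R₀ O)) = RingHom.ker φ₂ := by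
    rw [Ideal.map_sup, hI₀, Ideal.map_span, Set.image_singleton, hlg F (Or.inl rfl)]
    have h1 : RingHom.ker φ₂ = (Ideal.span {φ F}).comap φ :=
      Ideal.ext fun x => Ideal.Quotient.eq_zero_iff_mem
    rw [h1, show Ideal.span {φ F} = (Ideal.span {F}).map φ by rw [Ideal.map_span, Set.image_singleton]]
    exact ((Ideal.comap_map_of_surjective' φ hφ _).trans (sup_comm _ _)).symm
  let u : MvPolynomial (Fin n) R₀ →ₗ[MvPolynomial (Fin n) R₀] FlatModel.V 1 n R₀ :=
    (LinearEquiv.funUnique (Fin 1) (MvPolynomial (Fin n) R₀) (MvPolynomial (Fin n) R₀)).symm.toLinearMap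
  let K₀ : Submodule (MvPolynomial (Fin n) R₀) (FlatModel.V 1 n R₀) := Submodule.map u L₀
  have hKK : ∀ (R' : Type u) [CommRing R'] [Algebra R₀ R'],
      FlatModel.FlatC K₀ R' ↔
        Module.Flat R' (MvPolynomial (Fin n) R' ⧸ L₀.map (MvPolynomial.map (algebraMap R₀ R'))) := by
    intro R' _ _
    rw [FlatModel.flatC_iff_flat]
    let e : FlatModel.V 1 n R' ≃ₗ[MvPolynomial (Fin n) R'] MvPolynomial (Fin n) R' :=
      LinearEquiv.funUnique (Fin 1) (MvPolynomial (Fin n) R') (MvPolynomial (Fin n) R')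
    have hmap : Submodule.map (e : FlatModel.V 1 n R' →ₗ[MvPolynomial (Fin n) R'] MvPolynomial (Fin n) R')
        (FlatModel.KK K₀ R') = L₀.map (MvPolynomial.map (algebraMap R₀ R')) := by
      rw [FlatModel.KK, Submodule.map_span, Ideal.map]
      congr 1
      ext x
      simp [K₀, u, e, FlatModel.mapV, LinearEquiv.funUnique]
    exact Module.Flat.equiv_iff ((Submodule.Quotient.equiv _ _ e hmap).restrictScalars R')
  obtain ⟨R₂, hR₂, hflat⟩ := FlatModel.exists_fg_flatC K₀ (R := O) ((hKK O).2 (Module.Flat.of_linearEquiv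
    ((Ideal.quotientEquivAlgOfEq O hL₀).trans (Ideal.quotientKerAlgEquivOfSurjective hφ₂)).toLinearEquiv))
  rw [hKK] at hflat
  haveI : Algebra.FiniteType R₀ R₂ := (Subalgebra.fg_iff_finiteType R₂).1 hR₂
  haveI : IsNoetherianRing R₂ := Algebra.FiniteType.isNoetherianRing R₀ R₂
  let ρ : MvPolynomial (Fin n) R₀ →+* MvPolynomial (Fin n) R₂ := MvPolynomial.map (algebraMap R₀ R₂)
  let I₂ := I₀.map ρ
  let f₂ : (MvPolynomial (Fin n) R₂ ⧸ I₂) := Ideal.Quotient.mk I₂ (ρ (lg F))
  haveI : Module.Flat R₂ ((MvPolynomial (Fin n) R₂ ⧸ I₂) ⧸ Ideal.span {f₂}) := by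
    have h1 : Ideal.span {f₂} = (Ideal.span {ρ (lg F)}).map (Ideal.Quotient.mkₐ R₂ I₂) := by
      rw [Ideal.map_span, Set.image_singleton]; rfl
    have h2 : I₂ ⊔ Ideal.span {ρ (lg F)} = L₀.map ρ := by
      rw [Ideal.map_sup, Ideal.map_span ρ {lg F}, Set.image_singleton]
    exact Module.Flat.of_linearEquiv (((Ideal.quotientEquivAlgOfEq R₂ h1).trans
      ((DoubleQuot.quotQuotEquivQuotSupₐ R₂ I₂ (Ideal.span {ρ (lg F)})).trans
        (Ideal.quotientEquivAlgOfEq R₂ h2))).toLinearEquiv)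
  have hI₂ : I₂.map (MvPolynomial.map (algebraMap R₂ O)) = RingHom.ker φ := by
    rw [Ideal.map_map, ← hI₀]
    refine congrArg (Ideal.map · I₀) (RingHom.ext fun p => ?_)
    rw [RingHom.comp_apply, MvPolynomial.map_map, ← IsScalarTower.algebraMap_eq]
  let m : O ⊗[R₂] MvPolynomial (Fin n) R₂ →ₐ[O] O ⊗[R₂] (MvPolynomial (Fin n) R₂ ⧸ I₂) :=
    Algebra.TensorProduct.map (AlgHom.id O O) (Ideal.Quotient.mkₐ R₂ I₂)
  let χ : O ⊗[R₂] (MvPolynomial (Fin n) R₂ ⧸ I₂) →ₐ[O] A := Algebra.TensorProduct.lift (Algebra.ofId O A)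
    (Ideal.Quotient.liftₐ I₂ ((φ.restrictScalars R₂).comp (MvPolynomial.mapAlgHom (Algebra.ofId R₂ O))) (fun p hp => by
      have h := Ideal.mem_map_of_mem (MvPolynomial.map (algebraMap R₂ O)) hp
      rw [hI₂] at h
      exact h)) fun _ _ => Commute.all _ _
  have hχf : χ ((1 : O) ⊗ₜ[R₂] f₂) = φ F := by
    rw [Algebra.TensorProduct.lift_tmul, map_one, one_mul]
    show φ (MvPolynomial.map (algebraMap R₂ O) (ρ (lg F))) = φ F
    rw [MvPolynomial.map_map, ← IsScalarTower.algebraMap_eq, hlg F (Or.inl rfl)]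
  let ψ : MvPolynomial (Fin n) O →ₐ[O] O ⊗[R₂] (MvPolynomial (Fin n) R₂ ⧸ I₂) :=
    MvPolynomial.aeval fun i => (1 : O) ⊗ₜ[R₂] (Ideal.Quotient.mk I₂ (MvPolynomial.X i) : (MvPolynomial (Fin n) R₂ ⧸ I₂))
  have hψq : ∀ q : MvPolynomial (Fin n) R₂,
      ψ (MvPolynomial.map (algebraMap R₂ O) q) = (1 : O) ⊗ₜ[R₂] (Ideal.Quotient.mk I₂ q : (MvPolynomial (Fin n) R₂ ⧸ I₂)) := by
    intro q
    induction q using MvPolynomial.induction_on with
    | C r =>
      rw [MvPolynomial.map_C, ← MvPolynomial.algebraMap_eq, AlgHom.commutes]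
      exact ((Algebra.TensorProduct.includeRight (R := R₂) (A := O) (B := (MvPolynomial (Fin n) R₂ ⧸ I₂))).commutes r).symm
    | add p q hp hq => rw [map_add, map_add, hp, hq, map_add, tmul_add]
    | mul_X p i hp =>
      rw [map_mul, map_mul, hp, MvPolynomial.map_X, MvPolynomial.aeval_X, Algebra.TensorProduct.tmul_mul_tmul,
        one_mul, ← map_mul]
  have hψs : Function.Surjective ψ := fun z => by
    induction z using TensorProduct.induction_on with
    | zero => exact ⟨0, map_zero _⟩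
    | tmul r a =>
      obtain ⟨q, rfl⟩ := Ideal.Quotient.mk_surjective a
      refine ⟨MvPolynomial.C r * MvPolynomial.map (algebraMap R₂ O) q, ?_⟩
      rw [map_mul, hψq, ← MvPolynomial.algebraMap_eq, AlgHom.commutes, Algebra.TensorProduct.algebraMap_apply,
        Algebra.algebraMap_self, RingHom.id_apply, Algebra.TensorProduct.tmul_mul_tmul, one_mul, mul_one]
    | add a b ha hb => obtain ⟨p, rfl⟩ := ha; obtain ⟨q, rfl⟩ := hb; exact ⟨p + q, map_add _ _ _⟩
  have hχψ : χ.comp ψ = φ := MvPolynomial.algHom_ext fun i => by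
    rw [AlgHom.comp_apply, MvPolynomial.aeval_X, Algebra.TensorProduct.lift_tmul, map_one, one_mul]
    show φ (MvPolynomial.map (algebraMap R₂ O) (MvPolynomial.X i)) = _
    rw [MvPolynomial.map_X]
  have hχs : Function.Surjective χ := fun a => by
    obtain ⟨p, rfl⟩ := hφ a
    exact ⟨ψ p, DFunLike.congr_fun hχψ p⟩
  have hkψ : RingHom.ker φ ≤ RingHom.ker ψ := by
    rw [← hI₂, Ideal.map_le_iff_le_comap]
    intro q hq
    rw [Ideal.mem_comap, RingHom.mem_ker, hψq, Ideal.Quotient.eq_zero_iff_mem.2 hq, tmul_zero]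
  have hχi : Function.Injective χ := (injective_iff_map_eq_zero χ).2 fun z hz => by
    obtain ⟨p, rfl⟩ := hψs z
    exact hkψ ((DFunLike.congr_fun hχψ p).symm.trans hz)
  let χe : O ⊗[R₂] (MvPolynomial (Fin n) R₂ ⧸ I₂) ≃ₐ[O] A := AlgEquiv.ofBijective χ ⟨hχi, hχs⟩
  let Q' : Ideal (O ⊗[R₂] (MvPolynomial (Fin n) R₂ ⧸ I₂)) := Q.comap χ
  haveI : Q'.IsPrime := Ideal.comap_isPrime _ _
  haveI := flat_tensor_atPrime_of_regular_quot f₂ Q' (by rw [Ideal.mem_comap, hχf]; exact hf) fun t ht => by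
    obtain ⟨w, hw, hw0⟩ := hreg (χ t) (by rw [← hχf, ← map_mul, ht, map_zero])
    refine ⟨χe.symm w, fun h => hw ?_, χe.injective ?_⟩
    · rw [← χe.apply_symm_apply w]; exact h
    · rw [map_mul, χe.apply_symm_apply, map_zero]; exact hw0
  exact Module.Flat.of_linearEquiv
    (Localization.localAlgEquiv Q' Q χe rfl).symm.toLinearEquiv


/-- An element regular at a prime, with flat quotient, gives flatness at the prime (EGA IV 11.3.7). -/
theorem flat_atPrime_of_regular_quot {O A : Type u} [CommRing O] [CommRing A] [Algebra O A]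
    [Algebra.FinitePresentation O A] (f : A) [Module.Flat O (A ⧸ Ideal.span {f})] (Q : Ideal A) [Q.IsPrime]
    (hf : f ∈ Q) (hreg : ∀ t, f * t = 0 → ∃ w ∉ Q, w * t = 0) :
    Module.Flat O (Localization.AtPrime Q) := by
  classical
  obtain ⟨n, φ, hφ, hker⟩ := Algebra.FinitePresentation.out (R := O) (A := A)
  obtain ⟨G, hG⟩ := hker
  obtain ⟨F, rfl⟩ := hφ f
  let c : Finset O := (insert F G).biUnion fun g => g.coeffs
  let R₀ : Subalgebra ℤ O := Algebra.adjoin ℤ (c : Set O)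
  haveI : Algebra.FiniteType ℤ R₀ := (Subalgebra.fg_iff_finiteType R₀).1 (Subalgebra.fg_adjoin_finset c)
  haveI : IsNoetherianRing R₀ := Algebra.FiniteType.isNoetherianRing ℤ R₀
  have hlift : ∀ g ∈ insert F G, ∃ q : MvPolynomial (Fin n) R₀, MvPolynomial.map (algebraMap R₀ O) q = g := fun g hg =>
    MvPolynomial.mem_range_map_iff_coeffs_subset.2 fun x hx =>
      ⟨⟨x, Algebra.subset_adjoin (Finset.mem_biUnion.2 ⟨g, hg, hx⟩)⟩, rfl⟩
  choose! lg hlg using hlift
  exact flat_atPrime_aux n φ hφ G hG F lg (fun g hg => hlg g (hg.elim (fun h => h ▸ Finset.mem_insert_self _ _) Finset.mem_insert_of_mem)) Q hf hreg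

end Groth.Agent.TransFib6
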