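import Groth.Agent.KRegLib.FibreCrit
import Groth.Agent.RegLoc6.Seq
import Groth.Agent.ArtFunLib.HilbRing
import Groth.Agent.S15821
import Groth.Prelude.Def_CInt

/-!
# Regular sequences in a finitely presented flat algebra and in the fibre
-/

set_option autoImplicit false
set_option linter.style.haveILetI false
set_option synthInstance.maxHeartbeats 100000

universe u

open IsLocalRing RingTheory.Sequence
open Groth.Agent.WiebeLib

namespace Groth.Agent.TransFib6

/-- A regular sequence with flat quotient stays regular on a noetherian closed fibre. -/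
theorem isRegularIdeal_map_fib {O T : Type u} [CommRing O] [CommRing T] [IsLocalRing T] [Algebra O T]
    (p : Ideal O) (hp : p.map (algebraMap O T) ≤ maximalIdeal T)
    [IsNoetherianRing (T ⧸ p.map (algebraMap O T))] (l : List T) (hl : IsWeaklyRegular T l)
    (hmem : ∀ r ∈ l, r ∈ maximalIdeal T) [Module.Flat O (T ⧸ Ideal.ofList l)] :
    CInt.IsRegularIdeal ((Ideal.ofList l).map (Ideal.Quotient.mk (p.map (algebraMap O T)))) := by
  let π := Ideal.Quotient.mk (p.map (algebraMap O T))
  haveI : Nontrivial (T ⧸ p.map (algebraMap O T)) :=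
    Ideal.Quotient.nontrivial_iff.2 fun h => (maximalIdeal.isMaximal T).ne_top (top_le_iff.1 (h ▸ hp))
  haveI : IsLocalRing (T ⧸ p.map (algebraMap O T)) := IsLocalRing.of_surjective' π Ideal.Quotient.mk_surjective
  have hmem' : ∀ r ∈ l.map π, r ∈ maximalIdeal (T ⧸ p.map (algebraMap O T)) := by
    intro r hr
    obtain ⟨a, ha, rfl⟩ := List.mem_map.1 hr
    rw [← IsLocalRing.map_maximalIdeal_of_surjective π Ideal.Quotient.mk_surjective]
    exact Ideal.mem_map_of_mem π (hmem a ha)
  refine ⟨l.map π, RegLoc6.isRegular_iff_weakly _ hmem' ?_, (Ideal.map_ofList _ _).symm⟩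
  let f : Fin l.length → T ⧸ p.map (algebraMap O T) := fun i => π l[i]
  have hl' : l.map π = List.ofFn f := List.ext_getElem (by simp) fun i h1 h2 => by simp [f]
  rw [hl']
  refine LC.weaklyRegular_of_rel _ f (fun i => hmem' _ (List.mem_map_of_mem (List.getElem_mem _))) fun u hu => ?_
  choose u' hu' using fun i => Ideal.Quotient.mk_surjective (u i)
  have hm : π (DefGlueLib.dot (fun i : Fin l.length => l[i]) u') = 0 := by
    rw [← hu, DefGlueLib.dot_apply, DefGlueLib.dot_apply, map_sum]
    exact Finset.sum_congr rfl fun i _ => by rw [map_mul, hu']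
  have hmemL : DefGlueLib.dot (fun i : Fin l.length => l[i]) u' ∈ Ideal.ofList l := by
    rw [DefGlueLib.dot_apply]
    refine sum_mem fun i _ => ?_
    first
      | exact Ideal.mul_mem_right _ _ (Ideal.subset_span (List.getElem_mem i.2))
      | exact Ideal.mul_mem_left _ _ (Ideal.subset_span (List.getElem_mem i.2))
  have h2 := ArtFunLib.HilbRing.inf_map_le (algebraMap O T)
    (RingHom.flat_algebraMap_iff.2 (inferInstance : Module.Flat O (T ⧸ Ideal.ofList l))) p
    ⟨hmemL, Ideal.Quotient.eq_zero_iff_mem.1 hm⟩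
  rw [show Ideal.ofList l = Ideal.span (Set.range fun i : Fin l.length => l[i]) from (LC.range_list_get l).symm,
    ← smul_eq_mul, Submodule.mem_ideal_smul_span_iff_exists_sum] at h2
  obtain ⟨w, hw, hsum⟩ := h2
  rw [Finsupp.sum_fintype _ _ (by simp)] at hsum
  have hrel : DefGlueLib.dot (fun i : Fin l.length => l[i]) (fun i => u' i - w i) = 0 := by
    rw [DefGlueLib.dot_apply] at hsum ⊢
    simp only [mul_sub, sub_mul, Finset.sum_sub_distrib]
    rw [sub_eq_zero, ← hsum]
    exact Finset.sum_congr rfl fun i _ => by simp [mul_comm]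
  have htriv := DefGlueLib.mem_trivR_of_isKoszulRegularSeq ((Groth.Agent.S15821.result T l hl).1) hrel
  let Φ : (Fin l.length → T) →ₛₗ[π] (Fin l.length → T ⧸ p.map (algebraMap O T)) :=
    { toFun := fun v i => π (v i)
      map_add' := fun v v' => funext fun i => map_add π _ _
      map_smul' := fun c v => funext fun i => map_mul π _ _ }
  have he : Φ (fun i => u' i - w i) = u := funext fun i => by
    show π (u' i - w i) = u i
    rw [map_sub, show π (w i) = 0 from Ideal.Quotient.eq_zero_iff_mem.2 (hw i), sub_zero]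
    exact hu' i
  rw [← he]
  have hΦ : (DefGlueLib.trivR fun i : Fin l.length => l[i]).map Φ ≤ DefGlueLib.trivR f := by
    rw [DefGlueLib.trivR, Submodule.map_span, Submodule.span_le]
    rintro _ ⟨_, ⟨⟨i, j⟩, rfl⟩, rfl⟩
    refine Submodule.subset_span ⟨(i, j), funext fun k => ?_⟩
    simp [Φ, f, Pi.single_apply, apply_ite π]
  exact hΦ (Submodule.mem_map_of_mem htriv)

variable {O A : Type u} [CommRing O] [CommRing A] [Algebra O A] [Algebra.FinitePresentation O A] [Module.Flat O A]

/-- An ideal with flat quotient which is regular in the fibre is generated by a regular sequence nearby. -/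
theorem exists_isRegular_of_fib (I : Ideal A) (hfg : I.FG) [Module.Flat O (A ⧸ I)] (p : Ideal O) [p.IsPrime]
    (Q : Ideal A) [Q.IsPrime] [Q.LiesOver p] (hI : I ≤ Q) (T : Type u) [CommRing T] [IsLocalRing T] [Algebra A T]
    [IsLocalization.AtPrime T Q] [IsNoetherianRing (T ⧸ (p.map (algebraMap O A)).map (algebraMap A T))]
    [IsLocalRing (T ⧸ (p.map (algebraMap O A)).map (algebraMap A T))]
    (h : CInt.IsRegularIdeal ((I.map (algebraMap A T)).map
      (Ideal.Quotient.mk ((p.map (algebraMap O A)).map (algebraMap A T))))) :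
    ∃ g : A, g ∉ Q ∧ ∃ rs : List (Localization.Away g), IsRegular (Localization.Away g) rs ∧
      Ideal.ofList rs = I.map (algebraMap A (Localization.Away g)) := by
  classical
  let P := (p.map (algebraMap O A)).map (algebraMap A T)
  let π := Ideal.Quotient.mk P
  let φ : A →+* T ⧸ P := π.comp (algebraMap A T)
  obtain ⟨fb, hfb, hgen⟩ := h
  have hIφ : I.map φ = Ideal.ofList fb := by rw [← Ideal.map_map, hgen]
  have hpQ : p.map (algebraMap O A) ≤ Q :=
    Ideal.map_le_iff_le_comap.2 fun o ho => (Ideal.mem_of_liesOver Q p o).1 ho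
  let n := fb.length
  let f : Fin n → T ⧸ P := fun i => fb[i]
  have hrep : ∀ i, ∃ a ∈ I, ∃ u : T ⧸ P, IsUnit u ∧ φ a = u * f i := fun i => by
    have hm : f i ∈ (I.map (algebraMap A T)).map π := hgen ▸ Ideal.subset_span (List.getElem_mem _)
    obtain ⟨y, hy, hyf⟩ := (Ideal.mem_map_iff_of_surjective π Ideal.Quotient.mk_surjective).1 hm
    obtain ⟨⟨⟨a, ha⟩, s⟩, hys⟩ := (IsLocalization.mem_map_algebraMap_iff Q.primeCompl T).1 hy
    exact ⟨a, ha, π (algebraMap A T s), (IsLocalization.map_units T s).map π, by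
      show π (algebraMap A T a) = _
      rw [← hys, map_mul, hyf, mul_comm]⟩
  choose a haI u hu hau using hrep
  let fs := List.ofFn a
  have hJI : Ideal.ofList fs ≤ I := Ideal.span_le.2 fun x hx => by
    obtain ⟨i, rfl⟩ := List.mem_ofFn.1 hx
    exact haI i
  have hIP : ∀ x ∈ I, φ x ∈ maximalIdeal (T ⧸ P) := fun x hx => by
    rw [← IsLocalRing.map_maximalIdeal_of_surjective π Ideal.Quotient.mk_surjective]
    exact Ideal.mem_map_of_mem π ((IsLocalization.AtPrime.to_map_mem_maximal_iff T Q x).2 (hI hx))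
  have hspan : I.map φ ≤ (Ideal.ofList fs).map φ := by
    rw [hIφ, Ideal.ofList, Ideal.span_le]
    intro x hx
    obtain ⟨i, hi, rfl⟩ := List.mem_iff_getElem.1 hx
    have h1 : φ (a ⟨i, hi⟩) ∈ (Ideal.ofList fs).map φ :=
      Ideal.mem_map_of_mem φ (Ideal.subset_span (List.mem_ofFn.2 ⟨_, rfl⟩))
    rw [hau, Ideal.unit_mul_mem_iff_mem _ (hu _)] at h1
    exact h1
  have hwr : IsWeaklyRegular (T ⧸ P) (fs.map φ) := by
    rw [show fs.map φ = List.ofFn fun i => φ (a i) from List.map_ofFn ..]
    refine KRegLib.isWeaklyRegular_of_isExact_local _ (fun i => hIP _ (haI i)) ?_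
    have hf : IsExact f := KRegLib.isExact_of_isWeaklyRegular f (by
      rw [show List.ofFn f = fb from List.ofFn_getElem]; exact hfb.1)
    refine KRegLib.isExact_of_isUnit_det hf (Matrix.diagonal fun i => ↑(hu i).unit⁻¹) ?_ fun i => ?_
    · rw [Matrix.det_diagonal]
      exact IsUnit.prod_iff.2 fun i _ => Units.isUnit _
    · simp [Matrix.diagonal_apply, hau, ← mul_assoc]
  have hsat : ∀ (J : Ideal A) (x : A), φ x ∈ J.map φ → x ∈ FlatModel.sat p J Q.primeCompl := by
    intro J x hx
    have hx' : algebraMap A T x ∈ ((J.map (algebraMap A T)).map π).comap π := by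
      rw [Ideal.map_map]
      exact hx
    rw [Ideal.comap_map_of_surjective' π Ideal.Quotient.mk_surjective, Ideal.mk_ker, ← Ideal.map_sup,
      IsLocalization.algebraMap_mem_map_algebraMap_iff Q.primeCompl] at hx'
    obtain ⟨w, hw, hwx⟩ := hx'
    exact ⟨w, hw, hwx⟩
  obtain ⟨g, hg, hgood⟩ := Triage.SliceFlat.exists_slice (O := O) p Q fs (fun x hx => hI (hJI (Ideal.subset_span hx)))
    fun i hi t ht => by
    refine hsat _ t ?_
    obtain ⟨w, hw, hwt⟩ := ht
    have h1 := Ideal.mem_map_of_mem φ hwt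
    have hbot : (p.map (algebraMap O A)).map φ = ⊥ := by
      rw [← Ideal.map_map]
      exact Ideal.map_quotient_self P
    rw [Ideal.map_sup, hbot, sup_bot_eq, map_mul,
      Ideal.unit_mul_mem_iff_mem _ (show IsUnit (φ w) from (IsLocalization.map_units T (⟨w, hw⟩ : Q.primeCompl)).map π),
      map_mul] at h1
    have hI' : (Ideal.ofList ((fs.map φ).take i) • ⊤ : Submodule (T ⧸ P) (T ⧸ P)) = (Ideal.ofList (fs.take i)).map φ := by
      rw [← List.map_take, ← Ideal.map_ofList, Ideal.smul_eq_mul, Ideal.mul_top]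
    have h2 := hwr.regular_mod_prev i (by simpa using hi)
    have h3 : Submodule.Quotient.mk (p := (Ideal.ofList ((fs.map φ).take i) • ⊤ : Submodule (T ⧸ P) (T ⧸ P))) (φ t) = 0 := by
      refine h2.right_eq_zero_of_smul ?_
      rw [← Submodule.Quotient.mk_smul, Submodule.Quotient.mk_eq_zero, hI', smul_eq_mul, List.getElem_map]
      exact h1
    rwa [Submodule.Quotient.mk_eq_zero, hI'] at h3
  have hnak : I.map (algebraMap A T) ≤ (Ideal.ofList fs).map (algebraMap A T) := by
    refine Submodule.le_of_le_smul_of_le_jacobson_bot (hfg.map _) (IsLocalRing.maximalIdeal_le_jacobson ⊥)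
      (Ideal.map_le_iff_le_comap.2 fun x hx => ?_)
    obtain ⟨w, hw, hwx⟩ := hsat _ x (hspan (Ideal.mem_map_of_mem _ hx))
    obtain ⟨b, hb, c, hc, hbc⟩ := Submodule.mem_sup.1 hwx
    have hcI : c ∈ I := by
      rw [eq_sub_of_add_eq' hbc]
      exact sub_mem (Ideal.mul_mem_left _ _ hx) (hJI hb)
    have hcpI := Synt29.ArtinLift.inf_le_mul p I ⟨hc, hcI⟩
    rw [Ideal.mem_comap, ← Ideal.unit_mul_mem_iff_mem _ (IsLocalization.map_units T (⟨w, hw⟩ : Q.primeCompl)),
      ← map_mul, ← hbc, map_add]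
    refine Submodule.add_mem_sup (Ideal.mem_map_of_mem _ hb) ?_
    have h4 := Ideal.mem_map_of_mem (algebraMap A T) hcpI
    rw [Ideal.map_mul, ← smul_eq_mul] at h4
    refine Submodule.smul_mono ?_ le_rfl h4
    rw [← IsLocalization.AtPrime.map_eq_maximalIdeal Q T]
    exact Ideal.map_mono hpQ
  obtain ⟨gs, hgs⟩ := hfg
  have hden : ∀ x ∈ gs, ∃ w : Q.primeCompl, (w : A) * x ∈ Ideal.ofList fs := fun x hx => by
    have h5 := hnak (Ideal.mem_map_of_mem _ (hgs ▸ Ideal.subset_span hx))
    rw [IsLocalization.algebraMap_mem_map_algebraMap_iff Q.primeCompl] at h5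
    obtain ⟨w, hw, hwx⟩ := h5
    exact ⟨⟨w, hw⟩, hwx⟩
  choose w hw using hden
  let W : Q.primeCompl := ∏ x ∈ gs.attach, w x.1 x.2
  have hgW : g * W.1 ∉ Q := fun hm => ((inferInstance : Q.IsPrime).mem_or_mem hm).elim hg W.2
  let T' := Localization.Away (g * W.1)
  haveI : Module.Flat A T' := IsLocalization.flat T' (Submonoid.powers (g * W.1))
  have hu2 : IsUnit (algebraMap A T' g) ∧ IsUnit (algebraMap A T' W.1) := by
    rw [← IsUnit.mul_iff, ← map_mul]
    exact IsLocalization.Away.algebraMap_isUnit _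
  obtain ⟨hwr', -⟩ := hgood T' hu2.1
  have hge : Ideal.ofList (fs.map (algebraMap A T')) = I.map (algebraMap A T') := by
    refine le_antisymm ((Ideal.map_ofList _ _).symm.trans_le (Ideal.map_mono hJI)) ?_
    rw [← hgs, Ideal.map_span, Ideal.span_le]
    rintro _ ⟨x, hx, rfl⟩
    rw [SetLike.mem_coe, ← Ideal.unit_mul_mem_iff_mem _ hu2.2, ← map_mul, ← Ideal.map_ofList]
    refine Ideal.mem_map_of_mem _ ?_
    show (↑(∏ x ∈ gs.attach, w x.1 x.2) : A) * x ∈ _
    rw [← Finset.mul_prod_erase _ _ (Finset.mem_attach gs ⟨x, hx⟩), Submonoid.coe_mul, mul_comm (w x hx : A),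
      mul_assoc]
    exact Ideal.mul_mem_left _ _ (hw x hx)
  refine ⟨g * W.1, hgW, fs.map (algebraMap A T'), ⟨hwr', ?_⟩, hge⟩
  intro htop
  rw [smul_eq_mul, Ideal.mul_top, hge] at htop
  refine (IsLocalization.map_algebraMap_ne_top_iff_disjoint (Submonoid.powers (g * W.1)) T' I).2 ?_ htop.symm
  refine Set.disjoint_left.2 ?_
  rintro _ ⟨k, rfl⟩ hk
  exact hgW ((inferInstance : Q.IsPrime).mem_of_pow_mem k (hI hk))

end Groth.Agent.TransFib6
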